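import Mathlib
import Cfsg.Prelude.Def_Involutions
import Cfsg.Agent.Lib.H6.StrEmb
import Cfsg.Agent.Lib.H22.UniqueOrderP

set_option autoImplicit false
set_option linter.unusedSectionVars false

/-! Finite groups in which centralizers of involutions are commutative: local structure. -/

namespace Cfsg.Agent.Lib.H4.AIC

open Cfsg.Agent.Lib.H6.SE

/-- elementwise form of "centralizers of involutions are commutative". -/
def Hyp (G : Type*) [Group G] : Prop :=
  ∀ t : G, orderOf t = 2 → ∀ a b : G, a * t = t * a → b * t = t * b → a * b = b * a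

variable {G : Type*} [Group G]

theorem hyp_of (h : ∀ t : G, orderOf t = 2 →
    IsMulCommutative ↥(Subgroup.centralizer ({t} : Set G))) : Hyp G := by
  intro t ht a b ha hb
  have ha' : a ∈ Subgroup.centralizer ({t} : Set G) := by
    rw [Subgroup.mem_centralizer_singleton_iff]; exact ha
  have hb' : b ∈ Subgroup.centralizer ({t} : Set G) := by
    rw [Subgroup.mem_centralizer_singleton_iff]; exact hb
  have := (h t ht).is_comm.comm ⟨a, ha'⟩ ⟨b, hb'⟩
  exact congrArg Subtype.val this

/-- `Hyp` passes to subgroups. -/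
theorem Hyp.subgroup (h : Hyp G) (X : Subgroup G) : Hyp ↥X := by
  intro t ht a b ha hb
  have ht' : orderOf (t : G) = 2 := by rw [Subgroup.orderOf_coe]; exact ht
  have := h (t : G) ht' a b (by exact_mod_cast congrArg Subtype.val ha)
    (by exact_mod_cast congrArg Subtype.val hb)
  exact Subtype.ext (by exact_mod_cast this)

/-- the centralizer of a Sylow subgroup -/
def M (P : Sylow 2 G) : Subgroup G := Subgroup.centralizer ((P : Subgroup G) : Set G)

theorem mem_M {P : Sylow 2 G} {c : G} : c ∈ M P ↔ ∀ x ∈ (P : Subgroup G), x * c = c * x :=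
  Subgroup.mem_centralizer_iff

section

variable [Finite G] (hH : Hyp G) (P : Sylow 2 G) (hnc : ¬ IsCyclic (P : Subgroup G))

include hnc in
theorem P_ne_bot : (P : Subgroup G) ≠ ⊥ := by
  intro h
  apply hnc
  rw [h]
  infer_instance

include hnc in
/-- an involution in the centre of `P`. -/
theorem exists_central_involution :
    ∃ z ∈ (P : Subgroup G), orderOf z = 2 ∧ ∀ x ∈ (P : Subgroup G), x * z = z * x := by
  have : Fact (Nat.Prime 2) := ⟨Nat.prime_two⟩
  have hne := P_ne_bot P hnc
  have hnt : Nontrivial (P : Subgroup G) := (Subgroup.nontrivial_iff_ne_bot _).mpr hne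
  have hcn : Nontrivial (Subgroup.center (P : Subgroup G)) := P.2.center_nontrivial
  have hcard : 2 ∣ Nat.card (Subgroup.center (P : Subgroup G)) := by
    have hp : IsPGroup 2 (Subgroup.center (P : Subgroup G)) := P.2.to_subgroup _
    obtain ⟨n, hn⟩ := IsPGroup.iff_card.mp hp
    have : 1 < Nat.card (Subgroup.center (P : Subgroup G)) := Finite.one_lt_card
    rw [hn] at this ⊢
    have hn0 : n ≠ 0 := by
      intro h; rw [h] at this; simp at this
    exact dvd_pow_self 2 hn0
  obtain ⟨⟨⟨c, hcP⟩, hcc⟩, hc⟩ := exists_prime_orderOf_dvd_card' 2 hcard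
  have hc2 : orderOf c = 2 := by
    rw [← hc, Subgroup.orderOf_mk, Subgroup.orderOf_mk]
  rw [Subgroup.mem_center_iff] at hcc
  refine ⟨c, hcP, hc2, ?_⟩
  intro x hx
  have := hcc ⟨x, hx⟩
  exact congrArg Subtype.val this

include hH hnc in
/-- `P` is commutative. -/
theorem P_comm : ∀ a ∈ (P : Subgroup G), ∀ b ∈ (P : Subgroup G), a * b = b * a := by
  obtain ⟨z, -, hz, hzc⟩ := exists_central_involution P hnc
  intro a ha b hb
  exact hH z hz a b (hzc a ha) (hzc b hb)

include hH hnc in
theorem P_le_M : (P : Subgroup G) ≤ M P := by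
  intro x hx
  rw [mem_M]
  intro y hy
  exact P_comm hH P hnc y hy x hx

include hH hnc in
/-- the centralizer of any involution of `P` is `M P`. -/
theorem centralizer_eq_M {t : G} (ht : orderOf t = 2) (htP : t ∈ (P : Subgroup G)) :
    Subgroup.centralizer ({t} : Set G) = M P := by
  apply le_antisymm
  · intro c hc
    rw [Subgroup.mem_centralizer_singleton_iff] at hc
    rw [mem_M]
    intro x hx
    exact hH t ht x c (P_comm hH P hnc x hx t htP) hc
  · intro c hc
    rw [mem_M] at hc
    rw [Subgroup.mem_centralizer_singleton_iff]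
    exact (hc t htP).symm

include hH hnc in
/-- `M P` is commutative. -/
theorem M_comm : ∀ a ∈ M P, ∀ b ∈ M P, a * b = b * a := by
  obtain ⟨z, hzP, hz, -⟩ := exists_central_involution P hnc
  intro a ha b hb
  rw [mem_M] at ha hb
  exact hH z hz a b (ha z hzP).symm (hb z hzP).symm

include hH hnc in
/-- two distinct involutions in `P`. -/
theorem exists_two_involutions :
    ∃ t ∈ (P : Subgroup G), ∃ t' ∈ (P : Subgroup G), orderOf t = 2 ∧ orderOf t' = 2 ∧ t ≠ t' := by
  have : Fact (Nat.Prime 2) := ⟨Nat.prime_two⟩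
  by_contra hcon
  push Not at hcon
  apply hnc
  have hP2 : IsPGroup 2 (P : Subgroup G) := P.2
  apply Cfsg.Agent.Lib.H22.isCyclic_of_comm_of_atMostOne (p := 2) hP2
  · intro A B hA hB
    -- both are generated by the unique involution
    have key : ∀ C : Subgroup (P : Subgroup G), Nat.card C = 2 →
        ∃ x : (P : Subgroup G), x ∈ C ∧ orderOf x = 2 ∧ C = Subgroup.zpowers x := by
      intro C hC
      have hcyc : IsCyclic C := isCyclic_of_prime_card hC
      obtain ⟨g, hg⟩ := hcyc.exists_generator
      have hog : orderOf g = 2 := by rw [orderOf_eq_card_of_forall_mem_zpowers hg, hC]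
      refine ⟨g.1, g.2, ?_, ?_⟩
      · exact (Subgroup.orderOf_coe g).trans hog
      · apply le_antisymm
        · intro y hy
          obtain ⟨k, hk⟩ := Subgroup.mem_zpowers_iff.mp (hg ⟨y, hy⟩)
          rw [Subgroup.mem_zpowers_iff]
          refine ⟨k, ?_⟩
          have := congrArg Subtype.val hk
          simpa using this
        · rw [Subgroup.zpowers_le]; exact g.2
    obtain ⟨x, -, hx, hAx⟩ := key A hA
    obtain ⟨y, -, hy, hBy⟩ := key B hB
    have hx' : orderOf (x : G) = 2 := by rw [Subgroup.orderOf_coe]; exact hx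
    have hy' : orderOf (y : G) = 2 := by rw [Subgroup.orderOf_coe]; exact hy
    have := hcon x.1 x.2 y.1 y.2 hx' hy'
    have hxy : x = y := Subtype.ext this
    rw [hAx, hBy, hxy]
  · intro a b
    exact Subtype.ext (P_comm hH P hnc a.1 a.2 b.1 b.2)

end

section

variable [Finite G]

/-- two Sylow subgroups inside a commutative subgroup coincide. -/
theorem sylow_eq_of_le_comm (P Q : Sylow 2 G) {K : Subgroup G}
    (hK : ∀ a ∈ K, ∀ b ∈ K, a * b = b * a) (hP : (P : Subgroup G) ≤ K) (hQ : (Q : Subgroup G) ≤ K) :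
    P = Q := by
  have hPQ : (P : Subgroup G) ≤ Subgroup.normalizer ((Q : Subgroup G) : Set G) := by
    intro x hx
    rw [Subgroup.mem_normalizer_iff]
    intro y
    have : ∀ y ∈ (Q : Subgroup G), x * y * x⁻¹ = y := by
      intro y hy
      rw [hK x (hP hx) y (hQ hy)]; group
    constructor
    · intro hy; rw [this y hy]; exact hy
    · intro hy
      have h1 := this _ hy
      have h2 : x * (x * y * x⁻¹) * x⁻¹ = x * y * x⁻¹ := h1
      have h3 : x * y * x⁻¹ = y := by
        have := congrArg (fun z => x⁻¹ * z * x) h2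
        simpa [mul_assoc] using this
      rw [← h3]; exact hy
  have hsup : IsPGroup 2 ((P : Subgroup G) ⊔ (Q : Subgroup G) : Subgroup G) :=
    P.2.to_sup_of_normal_right' Q.2 hPQ
  have h1 : (P : Subgroup G) ⊔ (Q : Subgroup G) = P := P.is_maximal' hsup le_sup_left
  have h2 : (P : Subgroup G) ⊔ (Q : Subgroup G) = Q := Q.is_maximal' hsup le_sup_right
  exact Sylow.ext (h1.symm.trans h2)

/-- an involution normalizing `P` lies in `P`. -/
theorem mem_of_involution_normalizer (P : Sylow 2 G) {t : G} (ht : orderOf t = 2)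
    (htN : t ∈ Subgroup.normalizer ((P : Subgroup G) : Set G)) : t ∈ (P : Subgroup G) := by
  have hz : IsPGroup 2 (Subgroup.zpowers t) := by
    apply IsPGroup.of_card (n := 1)
    rw [Nat.card_zpowers, ht, pow_one]
  have hle : Subgroup.zpowers t ≤ Subgroup.normalizer ((P : Subgroup G) : Set G) := by
    rw [Subgroup.zpowers_le]; exact htN
  have hsup : IsPGroup 2 ((P : Subgroup G) ⊔ Subgroup.zpowers t : Subgroup G) :=
    P.2.to_sup_of_normal_left' hz hle
  have h1 : (P : Subgroup G) ⊔ Subgroup.zpowers t = P := P.is_maximal' hsup le_sup_left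
  rw [← h1]
  exact Subgroup.mem_sup_right (Subgroup.mem_zpowers t)

end

end Cfsg.Agent.Lib.H4.AIC
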