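import Mathlib
import Cfsg.Prelude.Def_Involutions
import Cfsg.Agent.Lib.H4.AIC.A1

set_option autoImplicit false
set_option linter.unusedSectionVars false

/-! Commutative involution centralizers: the normalizer of a Sylow 2-subgroup is strongly embedded;
the decomposition of its elements. -/

namespace Cfsg.Agent.Lib.H4.AIC

open Cfsg.Agent.Lib.H6.SE

variable {G : Type*} [Group G] [Finite G]

theorem isCyclic_sylow_imp (P Q : Sylow 2 G) (h : IsCyclic (P : Subgroup G)) :
    IsCyclic (Q : Subgroup G) := by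
  have : Fact (Nat.Prime 2) := ⟨Nat.prime_two⟩
  obtain ⟨g, hg⟩ := MulAction.exists_smul_eq G P Q
  subst hg
  exact isCyclic_of_surjective (Sylow.equivSMul P g) (Sylow.equivSMul P g).surjective

theorem normal_sylow_imp (P Q : Sylow 2 G) (h : (P : Subgroup G).Normal) :
    (Q : Subgroup G).Normal := by
  have : Fact (Nat.Prime 2) := ⟨Nat.prime_two⟩
  obtain ⟨g, hg⟩ := MulAction.exists_smul_eq G P Q
  have : g • P = P := Sylow.smul_eq_of_normal
  rw [this] at hg
  rw [← hg]; exact h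

section

variable (hH : Hyp G) (hnc : ∀ P : Sylow 2 G, ¬ IsCyclic (P : Subgroup G))

include hH hnc

/-- Sylow 2-subgroups sharing an involution coincide. -/
theorem sylow_eq_of_involution_mem (P Q : Sylow 2 G) {t : G} (ht : orderOf t = 2)
    (htP : t ∈ (P : Subgroup G)) (htQ : t ∈ (Q : Subgroup G)) : P = Q := by
  have h1 := centralizer_eq_M hH P (hnc P) ht htP
  have h2 := centralizer_eq_M hH Q (hnc Q) ht htQ
  apply sylow_eq_of_le_comm P Q (M_comm hH P (hnc P)) (P_le_M hH P (hnc P))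
  rw [← h1, h2]; exact P_le_M hH Q (hnc Q)

theorem exists_involution_mem (P : Sylow 2 G) : ∃ t ∈ (P : Subgroup G), orderOf t = 2 := by
  obtain ⟨t, ht, -, -, h2, -, -⟩ := exists_two_involutions hH P (hnc P)
  exact ⟨t, ht, h2⟩

/-- the normalizer of a non-normal Sylow 2-subgroup is strongly embedded. -/
theorem stronglyEmbedded (P : Sylow 2 G) (hnn : ¬ (P : Subgroup G).Normal) :
    Cfsg.IsStronglyEmbedded (Subgroup.normalizer ((P : Subgroup G) : Set G)) := by
  have : Fact (Nat.Prime 2) := ⟨Nat.prime_two⟩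
  refine ⟨?_, ?_, ?_⟩
  · intro h
    exact hnn (Subgroup.normalizer_eq_top_iff.mp h)
  · obtain ⟨t, ht, h2⟩ := exists_involution_mem hH hnc P
    have htN : t ∈ Subgroup.normalizer ((P : Subgroup G) : Set G) := Subgroup.le_normalizer ht
    have := orderOf_dvd_natCard (⟨t, htN⟩ : ↥(Subgroup.normalizer ((P : Subgroup G) : Set G)))
    rw [Subgroup.orderOf_mk, h2] at this
    exact even_iff_two_dvd.mpr this
  · intro g hg
    by_contra hodd
    rw [Nat.not_odd_iff_even, even_iff_two_dvd] at hodd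
    obtain ⟨⟨t, htm⟩, ht⟩ := exists_prime_orderOf_dvd_card' 2 hodd
    rw [Subgroup.orderOf_mk] at ht
    rw [Subgroup.mem_inf, Cfsg.Agent.Lib.H6.mem_map_conj_iff] at htm
    have h1 : t ∈ (P : Subgroup G) := mem_of_involution_normalizer P ht htm.1
    have h2 : g⁻¹ * t * g ∈ (P : Subgroup G) :=
      mem_of_involution_normalizer P (orderOf_conj' ht g) htm.2
    have h3 : t ∈ ((g • P : Sylow 2 G) : Subgroup G) := by
      rw [Sylow.coe_subgroup_smul, Subgroup.mem_pointwise_smul_iff_inv_smul_mem]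
      have : (MulAut.conj g)⁻¹ • t = g⁻¹ * t * g := by
        rw [← map_inv]
        simp [MulAut.smul_def]
      rw [this]; exact h2
    have h4 : P = g • P := sylow_eq_of_involution_mem hH hnc P (g • P) ht h1 h3
    apply hg
    exact Sylow.smul_eq_iff_mem_normalizer.mp h4.symm

/-- an involution outside the normalizer. -/
theorem exists_involution_not_mem (P : Sylow 2 G) (hnn : ¬ (P : Subgroup G).Normal) :
    ∃ u : G, orderOf u = 2 ∧ u ∉ Subgroup.normalizer ((P : Subgroup G) : Set G) := by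
  have : Fact (Nat.Prime 2) := ⟨Nat.prime_two⟩
  have hne : Subgroup.normalizer ((P : Subgroup G) : Set G) ≠ ⊤ := fun h =>
    hnn (Subgroup.normalizer_eq_top_iff.mp h)
  obtain ⟨g, hg⟩ : ∃ g : G, g ∉ Subgroup.normalizer ((P : Subgroup G) : Set G) := by
    by_contra hcon
    push Not at hcon
    exact hne (eq_top_iff.2 fun x _ => hcon x)
  obtain ⟨t, htQ, ht⟩ := exists_involution_mem hH hnc (g • P)
  refine ⟨t, ht, ?_⟩
  intro htN
  have h1 := mem_of_involution_normalizer P ht htN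
  have h4 : P = g • P := sylow_eq_of_involution_mem hH hnc P (g • P) ht h1 htQ
  exact hg (Sylow.smul_eq_iff_mem_normalizer.mp h4.symm)

end

omit [Finite G] in
/-- two involutions with product of odd order are exchanged by an involution in the subgroup
they generate. -/
theorem exists_conj_closure {s r : G} (hss : s * s = 1) (hrr : r * r = 1)
    (hodd : Odd (orderOf (s * r))) :
    ∃ u ∈ Subgroup.closure ({s, r} : Set G), u * u = 1 ∧ u * s * u = r := by
  obtain ⟨m, hm⟩ := hodd
  have h1 : (s * r) ^ (2 * m + 1) = 1 := by rw [← hm]; exact pow_orderOf_eq_one _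
  have h2 := Cfsg.Agent.Lib.H6.conj_of_pow_odd hss hrr m h1
  have h3 := Cfsg.Agent.Lib.H6.pow_mul_eq hss hrr m
  have hs : s ∈ Subgroup.closure ({s, r} : Set G) := Subgroup.subset_closure (by simp)
  have hr : r ∈ Subgroup.closure ({s, r} : Set G) := Subgroup.subset_closure (by simp)
  have hwm : (s * r) ^ m ∈ Subgroup.closure ({s, r} : Set G) :=
    Subgroup.pow_mem _ (Subgroup.mul_mem _ hs hr) m
  obtain ⟨w, hw⟩ : ∃ w, w = (s * r) ^ m := ⟨_, rfl⟩
  rw [← hw] at h2 h3 hwm
  refine ⟨w * s, Subgroup.mul_mem _ hwm hs, ?_, ?_⟩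
  · calc w * s * (w * s) = w * s * (s * w⁻¹) := by rw [← h3]
      _ = w * (s * s) * w⁻¹ := by group
      _ = 1 := by rw [hss]; group
  · calc w * s * s * (w * s) = w * (s * s) * (w * s) := by group
      _ = w * (w * s) := by rw [hss]; group
      _ = w * (s * w⁻¹) := by rw [h3]
      _ = w * s * w⁻¹ := by group
      _ = r := h2

/-- decomposition of the elements of a strongly embedded subgroup `X` relative to an involution
`u` outside `X` and an involution `t₀` in `X`. -/
theorem decomp {X : Subgroup G} (hX : Cfsg.IsStronglyEmbedded X) {u t₀ x : G}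
    (hu : orderOf u = 2) (huX : u ∉ X) (ht₀ : orderOf t₀ = 2) (ht₀X : t₀ ∈ X) (hx : x ∈ X) :
    ∃ k : G, k ∈ X ⊓ X.map (MulAut.conj u).toMonoidHom ∧ u * k * u⁻¹ = k⁻¹ ∧
      k ∈ Subgroup.closure ({x * t₀ * x⁻¹, u * t₀ * u⁻¹, u} : Set G) ∧
      (k⁻¹ * x) * t₀ = t₀ * (k⁻¹ * x) := by
  have huu := sq_eq_one hu
  have huinv := inv_eq hu
  have hi : orderOf (x * t₀ * x⁻¹) = 2 := orderOf_conj ht₀ x
  have hj : orderOf (u * t₀ * u⁻¹) = 2 := orderOf_conj ht₀ u
  have hiX : x * t₀ * x⁻¹ ∈ X := X.mul_mem (X.mul_mem hx ht₀X) (X.inv_mem hx)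
  have hi1 : (x * t₀ * x⁻¹) • (QuotientGroup.mk 1 : G ⧸ X) = QuotientGroup.mk 1 := by
    rw [smul_mk_eq_iff]; simpa using hiX
  have hju : (u * t₀ * u⁻¹) • (QuotientGroup.mk u : G ⧸ X) = QuotientGroup.mk u := by
    rw [smul_mk_eq_iff]
    have e : u⁻¹ * (u * t₀ * u⁻¹) * u = t₀ := by group
    rw [e]; exact ht₀X
  have hne : (QuotientGroup.mk 1 : G ⧸ X) ≠ QuotientGroup.mk u := by
    intro e
    rw [QuotientGroup.eq] at e
    apply huX
    simpa using e
  have hodd := odd_orderOf_mul hX hi hj hi1 hju hne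
  obtain ⟨w, hwc, hww, hwij⟩ := exists_conj_closure (sq_eq_one hi) (sq_eq_one hj) hodd
  have hwinv : w⁻¹ = w := inv_eq_of_mul_eq_one_right hww
  have hjw : (u * t₀ * u⁻¹) * w = w * (x * t₀ * x⁻¹) := by
    rw [← hwij]
    calc w * (x * t₀ * x⁻¹) * w * w = w * (x * t₀ * x⁻¹) * (w * w) := by group
      _ = w * (x * t₀ * x⁻¹) := by rw [hww, mul_one]
  have hw1 : w • (QuotientGroup.mk 1 : G ⧸ X) = QuotientGroup.mk u := by
    apply fix_unique hX hj ?_ hju
    rw [← mul_smul, hjw, mul_smul, hi1]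
  have hkX : w * u ∈ X := by
    have : (QuotientGroup.mk (w * 1) : G ⧸ X) = QuotientGroup.mk u := hw1
    rw [QuotientGroup.eq] at this
    have e : (w * 1)⁻¹ * u = w * u := by rw [mul_one, hwinv]
    rwa [e] at this
  have hkinv : (w * u)⁻¹ = u * w := by rw [mul_inv_rev, hwinv, huinv]
  refine ⟨w * u, ?_, ?_, ?_, ?_⟩
  · rw [Subgroup.mem_inf, Cfsg.Agent.Lib.H6.mem_map_conj_iff]
    refine ⟨hkX, ?_⟩
    have e : u⁻¹ * (w * u) * u = (w * u)⁻¹ := by
      rw [hkinv, huinv]
      calc u * (w * u) * u = u * w * (u * u) := by group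
        _ = u * w := by rw [huu, mul_one]
    rw [e]; exact X.inv_mem hkX
  · rw [hkinv]; group
  · apply Subgroup.mul_mem
    · refine Subgroup.closure_mono ?_ hwc
      intro z hz
      rcases hz with hz | hz
      · left; exact hz
      · right; left; exact hz
    · exact Subgroup.subset_closure (by simp)
  · rw [hkinv]
    have e1 : u * w * x * t₀ = u * (w * (x * t₀ * x⁻¹) * w) * (w⁻¹ * x) := by group
    rw [e1, hwij, hwinv]
    have e2 : u * (u * t₀ * u⁻¹) * (w * x) = (u * u) * t₀ * (u⁻¹ * w * x) := by group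
    rw [e2, huu, huinv]; group

/-- the elements of `X ∩ X^u` have odd order. -/
theorem odd_orderOf_of_mem_inf {X : Subgroup G} (hX : Cfsg.IsStronglyEmbedded X) {u k : G}
    (huX : u ∉ X) (hk : k ∈ X ⊓ X.map (MulAut.conj u).toMonoidHom) : Odd (orderOf k) := by
  have h1 := hX.2.2 u huX
  have h2 := orderOf_dvd_natCard (⟨k, hk⟩ : ↥(X ⊓ X.map (MulAut.conj u).toMonoidHom))
  rw [Subgroup.orderOf_mk] at h2
  exact Odd.of_dvd_nat h1 h2

end Cfsg.Agent.Lib.H4.AIC
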