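import Mathlib
import Cfsg.Prelude.Def_Involutions
import Cfsg.Agent.Lib.H4.AIC.A2
import Cfsg.Agent.Lib.H21.CATI1

set_option autoImplicit false
set_option linter.unusedSectionVars false

/-! Commutative involution centralizers: consequences of the trivial intersection property. -/

namespace Cfsg.Agent.Lib.H4.AIC

open Cfsg.Agent.Lib.H6.SE

variable {G : Type*} [Group G]

/-- centralizers of distinct Sylow 2-subgroups meet trivially. -/
def TI (G : Type*) [Group G] : Prop := ∀ P Q : Sylow 2 G, P ≠ Q → M P ⊓ M Q = ⊥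

theorem mem_M_smul {P : Sylow 2 G} {g x : G} : x ∈ M (g • P) ↔ g⁻¹ * x * g ∈ M P := by
  rw [mem_M, mem_M]
  constructor
  · intro h y hy
    have hy' : g * y * g⁻¹ ∈ ((g • P : Sylow 2 G) : Subgroup G) := by
      rw [Sylow.coe_subgroup_smul, Subgroup.mem_pointwise_smul_iff_inv_smul_mem]
      have : (MulAut.conj g)⁻¹ • (g * y * g⁻¹) = y := by
        rw [← map_inv]
        simp [MulAut.smul_def, mul_assoc]
      rw [this]; exact hy
    have := h _ hy'
    calc y * (g⁻¹ * x * g) = g⁻¹ * ((g * y * g⁻¹) * x) * g := by group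
      _ = g⁻¹ * (x * (g * y * g⁻¹)) * g := by rw [this]
      _ = g⁻¹ * x * g * y := by group
  · intro h y hy
    rw [Sylow.coe_subgroup_smul, Subgroup.mem_pointwise_smul_iff_inv_smul_mem] at hy
    have e : (MulAut.conj g)⁻¹ • y = g⁻¹ * y * g := by
      rw [← map_inv]
      simp [MulAut.smul_def]
    rw [e] at hy
    have := h _ hy
    calc y * x = g * ((g⁻¹ * y * g) * (g⁻¹ * x * g)) * g⁻¹ := by group
      _ = g * ((g⁻¹ * x * g) * (g⁻¹ * y * g)) * g⁻¹ := by rw [this]
      _ = x * y := by group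

section

variable [Finite G] (hTI : TI G)

include hTI

/-- (a) an element commuting with a nontrivial element of `M P` normalizes `P`. -/
theorem mem_normalizer_of_commute {P : Sylow 2 G} {x c : G} (hx : x ∈ M P) (hx1 : x ≠ 1)
    (hc : c * x = x * c) : c ∈ Subgroup.normalizer ((P : Subgroup G) : Set G) := by
  have : Fact (Nat.Prime 2) := ⟨Nat.prime_two⟩
  by_contra hcon
  have hne : c • P ≠ P := fun h => hcon (Sylow.smul_eq_iff_mem_normalizer.mp h)
  have h1 : x ∈ M (c • P) := by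
    rw [mem_M_smul]
    have : c⁻¹ * x * c = x := by
      calc c⁻¹ * x * c = c⁻¹ * (x * c) := by group
        _ = c⁻¹ * (c * x) := by rw [hc]
        _ = x := by group
    rw [this]; exact hx
  have h2 : x ∈ M (c • P) ⊓ M P := ⟨h1, hx⟩
  rw [hTI _ _ hne, Subgroup.mem_bot] at h2
  exact hx1 h2

variable (hH : Hyp G) (hnc : ∀ P : Sylow 2 G, ¬ IsCyclic (P : Subgroup G))

include hH hnc

/-- (b) key lemma. -/
theorem eq_one_of_commute {k u c : G} (hu : orderOf u = 2) (hk : Odd (orderOf k))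
    (huk : u * k * u⁻¹ = k⁻¹) (hk1 : k ≠ 1) (hck : c * k = k * c) (hcu : c * u = u * c) :
    c = 1 := by
  have : Fact (Nat.Prime 2) := ⟨Nat.prime_two⟩
  by_contra hc1
  have hp : IsPGroup 2 (Subgroup.zpowers u) := by
    apply IsPGroup.of_card (n := 1)
    rw [Nat.card_zpowers, hu, pow_one]
  obtain ⟨S, hS⟩ := hp.exists_le_sylow
  have huS : u ∈ (S : Subgroup G) := hS (Subgroup.mem_zpowers u)
  have hcM : c ∈ M S := by
    rw [← centralizer_eq_M hH S (hnc S) hu huS, Subgroup.mem_centralizer_singleton_iff]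
    exact hcu
  have hkN := mem_normalizer_of_commute hTI hcM hc1 hck.symm
  have h1 : k * u * k⁻¹ ∈ (S : Subgroup G) := (Subgroup.mem_normalizer_iff.mp hkN u).mp huS
  have h2 : k * k ∈ (S : Subgroup G) := by
    have e : k * k = (k * u * k⁻¹) * u⁻¹ := by
      have : k = (u * k * u⁻¹)⁻¹ := by rw [huk, inv_inv]
      calc k * k = k * (u * k * u⁻¹)⁻¹ := by rw [← this]
        _ = (k * u * k⁻¹) * u⁻¹ := by group
    rw [e]
    exact Subgroup.mul_mem _ h1 (Subgroup.inv_mem _ huS)
  obtain ⟨n, hn⟩ := S.2 ⟨k * k, h2⟩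
  have hn' : (k * k) ^ (2 ^ n) = 1 := by
    have := congrArg Subtype.val hn
    simpa using this
  have h3 : orderOf k ∣ 2 ^ (n + 1) := by
    apply orderOf_dvd_of_pow_eq_one
    rw [pow_succ, mul_comm, pow_mul, pow_two]; exact hn'
  have h4 : (orderOf k).Coprime (2 ^ (n + 1)) := by
    apply Nat.Coprime.pow_right
    exact Nat.Coprime.symm (Nat.coprime_two_left.mpr hk)
  have h5 : orderOf k = 1 := Nat.Coprime.eq_one_of_dvd h4 h3
  exact hk1 (orderOf_eq_one_iff.mp h5)

/-- (b') `u` inverts the centralizer of `k`. -/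
theorem inverts_of_commute {k u y : G} (hu : orderOf u = 2) (hk : Odd (orderOf k))
    (huk : u * k * u⁻¹ = k⁻¹) (hk1 : k ≠ 1) (hyk : y * k = k * y) : u * y * u⁻¹ = y⁻¹ := by
  have huu := sq_eq_one hu
  have huinv := inv_eq hu
  have hmem : ∀ z : G, z * k = k * z → (z⁻¹ * (u * z * u⁻¹)) * k = k * (z⁻¹ * (u * z * u⁻¹)) := by
    intro z hz
    have hz' : z⁻¹ * k = k * z⁻¹ := by
      calc z⁻¹ * k = z⁻¹ * (k * z) * z⁻¹ := by group
        _ = z⁻¹ * (z * k) * z⁻¹ := by rw [hz]
        _ = k * z⁻¹ := by group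
    have hzk' : z * k⁻¹ = k⁻¹ * z := by
      calc z * k⁻¹ = k⁻¹ * (k * z) * k⁻¹ := by group
        _ = k⁻¹ * (z * k) * k⁻¹ := by rw [hz]
        _ = k⁻¹ * z := by group
    have h1 : u⁻¹ * k * u = k⁻¹ := by
      rw [huinv]
      have : u * k * u = u * k * u⁻¹ := by rw [huinv]
      rw [this, huk]
    have h2 : u * k⁻¹ * u⁻¹ = k := by
      have : u * k⁻¹ * u⁻¹ = (u * k * u⁻¹)⁻¹ := by group
      rw [this, huk, inv_inv]
    have h3 : (u * z * u⁻¹) * k = k * (u * z * u⁻¹) := by
      calc (u * z * u⁻¹) * k = u * z * (u⁻¹ * k * u) * u⁻¹ := by group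
        _ = u * (z * k⁻¹) * u⁻¹ := by rw [h1]; group
        _ = u * (k⁻¹ * z) * u⁻¹ := by rw [hzk']
        _ = (u * k⁻¹ * u⁻¹) * (u * z * u⁻¹) := by group
        _ = k * (u * z * u⁻¹) := by rw [h2]
    calc (z⁻¹ * (u * z * u⁻¹)) * k = z⁻¹ * ((u * z * u⁻¹) * k) := by group
      _ = z⁻¹ * (k * (u * z * u⁻¹)) := by rw [h3]
      _ = (z⁻¹ * k) * (u * z * u⁻¹) := by group
      _ = k * (z⁻¹ * (u * z * u⁻¹)) := by rw [hz']; group
  let f : ↥(Subgroup.centralizer ({k} : Set G)) → ↥(Subgroup.centralizer ({k} : Set G)) :=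
    fun z => ⟨(z : G)⁻¹ * (u * z * u⁻¹), by
      rw [Subgroup.mem_centralizer_singleton_iff]
      exact hmem z (Subgroup.mem_centralizer_singleton_iff.mp z.2)⟩
  have hinj : Function.Injective f := by
    intro a b hab
    have hab' : (a : G)⁻¹ * (u * a * u⁻¹) = (b : G)⁻¹ * (u * b * u⁻¹) := congrArg Subtype.val hab
    have hc : ((b : G) * (a : G)⁻¹) = 1 := by
      apply eq_one_of_commute hTI hH hnc hu hk huk hk1
      · have ha := Subgroup.mem_centralizer_singleton_iff.mp a.2
        have hb := Subgroup.mem_centralizer_singleton_iff.mp b.2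
        have ha' : (a : G)⁻¹ * k = k * (a : G)⁻¹ := by
          calc (a : G)⁻¹ * k = (a : G)⁻¹ * (k * a) * (a : G)⁻¹ := by group
            _ = (a : G)⁻¹ * (a * k) * (a : G)⁻¹ := by rw [ha]
            _ = k * (a : G)⁻¹ := by group
        calc (b : G) * (a : G)⁻¹ * k = b * ((a : G)⁻¹ * k) := by group
          _ = b * (k * (a : G)⁻¹) := by rw [ha']
          _ = (b * k) * (a : G)⁻¹ := by group
          _ = k * (b * (a : G)⁻¹) := by rw [hb]; group
      · have h1 : (a : G)⁻¹ * u * a = (b : G)⁻¹ * u * b := by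
          have := congrArg (fun z => z * u) hab'
          simpa [mul_assoc] using this
        calc (b : G) * (a : G)⁻¹ * u = b * ((a : G)⁻¹ * u * a) * (a : G)⁻¹ := by group
          _ = b * ((b : G)⁻¹ * u * b) * (a : G)⁻¹ := by rw [h1]
          _ = u * (b * (a : G)⁻¹) := by group
    apply Subtype.ext
    have : (b : G) = a := by
      calc (b : G) = (b * (a : G)⁻¹) * a := by group
        _ = a := by rw [hc, one_mul]
    exact this.symm
  have hsurj := Finite.surjective_of_injective hinj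
  have hyC : y ∈ Subgroup.centralizer ({k} : Set G) := by
    rw [Subgroup.mem_centralizer_singleton_iff]; exact hyk
  obtain ⟨z, hz⟩ := hsurj ⟨y, hyC⟩
  have hz' : (z : G)⁻¹ * (u * z * u⁻¹) = y := congrArg Subtype.val hz
  rw [← hz', huinv]
  calc u * ((z : G)⁻¹ * (u * z * u)) * u = u * (z : G)⁻¹ * u * z * (u * u) := by group
    _ = u * (z : G)⁻¹ * u * z := by rw [huu, mul_one]
    _ = ((z : G)⁻¹ * (u * z * u))⁻¹ := by
        rw [mul_inv_rev, mul_inv_rev, mul_inv_rev, huinv, inv_inv]; group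

/-- (c) under the trivial intersection property, `M P` is the centralizer of each of its
nontrivial elements. -/
theorem centralizer_eq_M_of_TI (P : Sylow 2 G) (hnn : ¬ (P : Subgroup G).Normal) {x : G}
    (hx : x ∈ M P) (hx1 : x ≠ 1) : Subgroup.centralizer ({x} : Set G) = M P := by
  have : Fact (Nat.Prime 2) := ⟨Nat.prime_two⟩
  apply le_antisymm
  · intro c hc
    rw [Subgroup.mem_centralizer_singleton_iff] at hc
    have hcN := mem_normalizer_of_commute hTI hx hx1 hc
    have hSE := stronglyEmbedded hH hnc P hnn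
    obtain ⟨u, hu, huN⟩ := exists_involution_not_mem hH hnc P hnn
    obtain ⟨t₀, ht₀P, ht₀⟩ := exists_involution_mem hH hnc P
    obtain ⟨k, hkD, huk, -, hy⟩ := decomp hSE hu huN ht₀ (Subgroup.le_normalizer ht₀P) hcN
    have hkodd := odd_orderOf_of_mem_inf hSE huN hkD
    have hyM : k⁻¹ * c ∈ M P := by
      rw [← centralizer_eq_M hH P (hnc P) ht₀ ht₀P, Subgroup.mem_centralizer_singleton_iff]
      exact hy
    by_cases hk1 : k = 1
    · rw [hk1, inv_one, one_mul] at hyM
      exact hyM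
    · exfalso
      have hyx : (k⁻¹ * c) * x = x * (k⁻¹ * c) := M_comm hH P (hnc P) _ hyM _ hx
      have hxk : x * k = k * x := by
        have e : k = c * (k⁻¹ * c)⁻¹ := by group
        have hyx' : (k⁻¹ * c)⁻¹ * x = x * (k⁻¹ * c)⁻¹ := by
          calc (k⁻¹ * c)⁻¹ * x = (k⁻¹ * c)⁻¹ * (x * (k⁻¹ * c)) * (k⁻¹ * c)⁻¹ := by group
            _ = (k⁻¹ * c)⁻¹ * ((k⁻¹ * c) * x) * (k⁻¹ * c)⁻¹ := by rw [hyx]
            _ = x * (k⁻¹ * c)⁻¹ := by group
        calc x * k = x * (c * (k⁻¹ * c)⁻¹) := by rw [← e]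
          _ = (x * c) * (k⁻¹ * c)⁻¹ := by group
          _ = (c * x) * (k⁻¹ * c)⁻¹ := by rw [hc]
          _ = c * (x * (k⁻¹ * c)⁻¹) := by group
          _ = c * ((k⁻¹ * c)⁻¹ * x) := by rw [hyx']
          _ = (c * (k⁻¹ * c)⁻¹) * x := by group
          _ = k * x := by rw [← e]
      have hinv := inverts_of_commute hTI hH hnc hu hkodd huk hk1 hxk
      have hne : u • P ≠ P := fun h => huN (Sylow.smul_eq_iff_mem_normalizer.mp h)
      have h1 : x⁻¹ ∈ M (u • P) := by
        rw [mem_M_smul, ← hinv]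
        have e : u⁻¹ * (u * x * u⁻¹) * u = x := by group
        rw [e]; exact hx
      have h2 : x⁻¹ ∈ M (u • P) ⊓ M P := ⟨h1, Subgroup.inv_mem _ hx⟩
      rw [hTI _ _ hne, Subgroup.mem_bot, inv_eq_one] at h2
      exact hx1 h2
  · intro c hc
    rw [Subgroup.mem_centralizer_singleton_iff]
    exact M_comm hH P (hnc P) c hc x hx

/-- under the trivial intersection property, `M P` satisfies the hypotheses of the
classification of self-centralizing TI subgroups of even order. -/
theorem catiHyp (P : Sylow 2 G) (hnn : ¬ (P : Subgroup G).Normal) :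
    Cfsg.Agent.Lib.H21.CATI.Hyp (M P) := by
  have : Fact (Nat.Prime 2) := ⟨Nat.prime_two⟩
  refine ⟨?_, ?_, ?_⟩
  · intro a ha ha1
    exact centralizer_eq_M_of_TI hTI hH hnc P hnn ha ha1
  · obtain ⟨t₀, ht₀P, ht₀⟩ := exists_involution_mem hH hnc P
    exact ⟨t₀, P_le_M hH P (hnc P) ht₀P, ht₀⟩
  · intro htop
    apply hnn
    rw [← Subgroup.normalizer_eq_top_iff, eq_top_iff]
    intro g _
    have hgN : g ∈ Subgroup.normalizer ((M P : Subgroup G) : Set G) := by rw [htop]; trivial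
    have hle : ((g • P : Sylow 2 G) : Subgroup G) ≤ M P := by
      intro y hy
      rw [Sylow.coe_subgroup_smul, Subgroup.mem_pointwise_smul_iff_inv_smul_mem] at hy
      have e : (MulAut.conj g)⁻¹ • y = g⁻¹ * y * g := by
        rw [← map_inv]
        simp [MulAut.smul_def]
      rw [e] at hy
      have h1 := P_le_M hH P (hnc P) hy
      have h2 := (Subgroup.mem_normalizer_iff.mp hgN _).mp h1
      have e2 : g * (g⁻¹ * y * g) * g⁻¹ = y := by group
      rwa [e2] at h2
    have := sylow_eq_of_le_comm (g • P) P (M_comm hH P (hnc P)) hle (P_le_M hH P (hnc P))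
    exact Sylow.smul_eq_iff_mem_normalizer.mp this

end

end Cfsg.Agent.Lib.H4.AIC
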