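import Mathlib
import Cfsg.Prelude.Def_Involutions
import Cfsg.Agent.Lib.H4.AIC.A3
import Cfsg.Agent.Lib.H21.CATI5
import Cfsg.Agent.Lib.H9.CoprimeGeneration
import Cfsg.Agent.Lib.H18.SL2Char2Action

set_option autoImplicit false
set_option linter.unusedSectionVars false

/-! Commutative involution centralizers: the trivial intersection case. -/

namespace Cfsg.Agent.Lib.H4.AIC

open Cfsg.Agent.Lib.H6.SE
open Cfsg.Agent.Lib.H21.CATI (Hyp.comm Hyp.mem_of_commute Hyp.mem_normalizer_of_conj_mem
  Hyp.stronglyEmbedded D_inf_A D_inverted exists_D_A)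

variable {G : Type*} [Group G] [Finite G]

/-- simplicity criterion. -/
theorem isSimpleGroup_of_catiHyp {A : Subgroup G} (h : Cfsg.Agent.Lib.H21.CATI.Hyp A)
    (h2 : ∃ t ∈ A, ∃ t' ∈ A, orderOf t = 2 ∧ orderOf t' = 2 ∧ t ≠ t')
    (hoddN : ∀ N : Subgroup G, N.Normal → Odd (Nat.card N) → N ≤ A) : IsSimpleGroup G := by
  have : Fact (Nat.Prime 2) := ⟨Nat.prime_two⟩
  obtain ⟨t, htA, t', ht'A, ht, ht', hne⟩ := h2
  have hSE := h.stronglyEmbedded
  have htN : t ∈ Subgroup.normalizer (A : Set G) := Subgroup.le_normalizer htA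
  have ht'N : t' ∈ Subgroup.normalizer (A : Set G) := Subgroup.le_normalizer ht'A
  obtain ⟨g₀, hg₀⟩ : ∃ g₀ : G, g₀ ∉ Subgroup.normalizer (A : Set G) := by
    by_contra hcon
    push Not at hcon
    exact h.ne_top (eq_top_iff.2 fun x _ => hcon x)
  have hnt : Nontrivial G := ⟨⟨t, 1, ne_one ht⟩⟩
  refine ⟨fun N hN => ?_⟩
  by_cases hev : Even (Nat.card N)
  · right
    -- an involution in N
    obtain ⟨⟨s, hsN⟩, hs⟩ := exists_prime_orderOf_dvd_card' 2 (even_iff_two_dvd.mp hev)
    rw [Subgroup.orderOf_mk] at hs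
    -- an involution outside the normalizer
    obtain ⟨u, hu, huH⟩ : ∃ u : G, orderOf u = 2 ∧ u ∉ Subgroup.normalizer (A : Set G) := by
      refine ⟨g₀ * t * g₀⁻¹, orderOf_conj ht g₀, ?_⟩
      intro hmem
      exact hg₀ (mem_of_conj_mem' hSE ht htN hmem)
    have hall := (Cfsg.Agent.S1225.result _ hSE u hu huH t t' ht htN ht' ht'N).2
    have hinvN : ∀ b : G, orderOf b = 2 → b ∈ N := by
      intro b hb
      obtain ⟨c, hc⟩ := isConj_iff.mp (hall s b hs hb)
      rw [← hc]
      exact hN.conj_mem s hsN c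
    have huinv := inv_eq hu
    have huu := sq_eq_one hu
    -- D ≤ N
    have hDN : ∀ d ∈ Subgroup.normalizer (A : Set G) ⊓
        (Subgroup.normalizer (A : Set G)).map (MulAut.conj u).toMonoidHom, d ∈ N := by
      intro d hd
      have hinv := D_inverted h hu huH hd
      have h1 : (u * d) * (u * d) = 1 := by
        calc (u * d) * (u * d) = (u * d * u⁻¹) * (u * u) * d := by group
          _ = 1 := by rw [hinv, huu]; group
      have h2 : u * d ≠ 1 := by
        intro e
        have : d = u⁻¹ := by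
          calc d = u⁻¹ * (u * d) := by group
            _ = u⁻¹ := by rw [e, mul_one]
        apply huH
        have hdH := (Subgroup.mem_inf.mp hd).1
        rw [this] at hdH
        exact (Subgroup.inv_mem_iff _).mp hdH
      have h3 : orderOf (u * d) = 2 := orderOf_eq_prime (by rw [pow_two]; exact h1) h2
      have h4 := hinvN _ h3
      have h5 := hinvN u hu
      have : d = u⁻¹ * (u * d) := by group
      rw [this]
      exact N.mul_mem (N.inv_mem h5) h4
    -- a nontrivial element of D
    obtain ⟨d, hd, hdt⟩ := (Cfsg.Agent.S1225.result _ hSE u hu huH t t' ht htN ht' ht'N).1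
    have hd1 : d ≠ 1 := by
      intro e
      rw [e] at hdt
      apply hne
      simpa using hdt
    have hdA : d ∉ A := fun hdA => hd1 (D_inf_A h hu huH hd hdA)
    have hdNorm : d ∈ Subgroup.normalizer (A : Set G) := (Subgroup.mem_inf.mp hd).1
    have hdN := hDN d hd
    -- A ≤ N
    have hAN : A ≤ N := by
      let f : ↥A → ↥A := fun x => ⟨(x : G)⁻¹ * (d * x * d⁻¹),
        A.mul_mem (A.inv_mem x.2) ((Subgroup.mem_normalizer_iff.mp hdNorm x).mp x.2)⟩
      have hinj : Function.Injective f := by
        intro x y hxy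
        have hxy' : (x : G)⁻¹ * (d * x * d⁻¹) = (y : G)⁻¹ * (d * y * d⁻¹) := congrArg Subtype.val hxy
        have h1 : (x : G)⁻¹ * d * x = (y : G)⁻¹ * d * y := by
          have := congrArg (fun z => z * d) hxy'
          simpa [mul_assoc] using this
        have h2 : ((y : G) * (x : G)⁻¹) * d = d * ((y : G) * (x : G)⁻¹) := by
          calc ((y : G) * (x : G)⁻¹) * d = y * ((x : G)⁻¹ * d * x) * (x : G)⁻¹ := by group
            _ = y * ((y : G)⁻¹ * d * y) * (x : G)⁻¹ := by rw [h1]
            _ = d * ((y : G) * (x : G)⁻¹) := by group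
        by_contra hxne
        have h3 : (y : G) * (x : G)⁻¹ ≠ 1 := by
          intro e
          apply hxne
          apply Subtype.ext
          calc (x : G) = ((y : G) * (x : G)⁻¹)⁻¹ * y := by group
            _ = y := by rw [e, inv_one, one_mul]
        exact hdA (h.mem_of_commute (A.mul_mem y.2 (A.inv_mem x.2)) h3 h2)
      have hsurj := Finite.surjective_of_injective hinj
      intro a ha
      obtain ⟨x, hx⟩ := hsurj ⟨a, ha⟩
      have hx' : (x : G)⁻¹ * (d * x * d⁻¹) = a := congrArg Subtype.val hx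
      rw [← hx']
      have e : (x : G)⁻¹ * (d * x * d⁻¹) = ((x : G)⁻¹ * d * ((x : G)⁻¹)⁻¹) * d⁻¹ := by group
      rw [e]
      exact N.mul_mem (hN.conj_mem d hdN _) (N.inv_mem hdN)
    -- the normalizer is in N
    have hHN : Subgroup.normalizer (A : Set G) ≤ N := by
      intro m hm
      obtain ⟨d', hd', hm'⟩ := exists_D_A h hu huH hm
      have : m = d' * (d'⁻¹ * m) := by group
      rw [this]
      exact N.mul_mem (hDN d' hd') (hAN hm')
    rw [eq_top_iff]
    intro g _
    by_cases hgH : g ∈ Subgroup.normalizer (A : Set G)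
    · exact hHN hgH
    · have hi1 : t • (QuotientGroup.mk 1 : G ⧸ Subgroup.normalizer (A : Set G)) =
          QuotientGroup.mk 1 := by
        rw [smul_mk_eq_iff]; simpa using htN
      have hjg : (g * t * g⁻¹) • (QuotientGroup.mk g : G ⧸ Subgroup.normalizer (A : Set G)) =
          QuotientGroup.mk g := by
        rw [smul_mk_eq_iff]
        have e : g⁻¹ * (g * t * g⁻¹) * g = t := by group
        rw [e]; exact htN
      have hne' : (QuotientGroup.mk 1 : G ⧸ Subgroup.normalizer (A : Set G)) ≠
          QuotientGroup.mk g := by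
        intro e
        rw [QuotientGroup.eq] at e
        apply hgH
        simpa using e
      obtain ⟨w, hw, -, hw1, -⟩ := exists_swap hSE ht (orderOf_conj ht g) hi1 hjg hne'
      have hw1' : (QuotientGroup.mk (w * 1) : G ⧸ Subgroup.normalizer (A : Set G)) =
          QuotientGroup.mk g := hw1
      rw [QuotientGroup.eq] at hw1'
      have : g = w * ((w * 1)⁻¹ * g) := by group
      rw [this]
      exact N.mul_mem (hinvN w hw) (hHN hw1')
  · left
    rw [Nat.not_even_iff_odd] at hev
    have hle := hoddN N hN hev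
    rw [eq_bot_iff]
    intro n hn
    rw [Subgroup.mem_bot]
    by_contra hn1
    apply hg₀
    exact h.mem_normalizer_of_conj_mem (hle hn) hn1 (hle (hN.conj_mem n hn g₀))

section

variable (hH : Hyp G) (hnc : ∀ P : Sylow 2 G, ¬ IsCyclic (P : Subgroup G))

include hH hnc

/-- a normal subgroup of odd order centralizes every Sylow 2-subgroup. -/
theorem odd_normal_le_M (P : Sylow 2 G) (N : Subgroup G) (hN : N.Normal)
    (hodd : Odd (Nat.card N)) : N ≤ M P := by
  have : Fact (Nat.Prime 2) := ⟨Nat.prime_two⟩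
  obtain ⟨x, hxP, y, hyP, hx, hy, hxy⟩ := exists_two_involutions hH P (hnc P)
  have hcomm := P_comm hH P (hnc P)
  have hact : Cfsg.Agent.Lib.H1.CoprimeAction (P : Subgroup G) N := by
    refine ⟨?_, ?_, ?_⟩
    · intro g _
      rw [Subgroup.normalizer_eq_top]
      trivial
    · obtain ⟨n, hn⟩ := IsPGroup.iff_card.mp P.2
      rw [hn]
      apply Nat.Coprime.pow_left
      exact Nat.coprime_two_left.mpr hodd
    · left
      have : ∀ a b : ↥(P : Subgroup G), a * b = b * a := fun a b =>
        Subtype.ext (hcomm a.1 a.2 b.1 b.2)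
      exact Group.isSolvable_of_comm this
  have hxx := sq_eq_one hx
  have hyy := sq_eq_one hy
  apply Cfsg.Agent.Lib.H9.le_of_centralizers_le (p := 2) hact
    (Nat.Coprime.symm (Nat.coprime_two_left.mpr hodd)) hxP hyP (hcomm x hxP y hyP)
    (by rw [pow_two]; exact hxx) (by rw [pow_two]; exact hyy)
  · rw [centralizer_eq_M hH P (hnc P) hx hxP]
    exact inf_le_right
  · intro i
    have hxy2 : orderOf (x * y) = 2 := by
      apply orderOf_eq_prime
      · rw [pow_two]
        calc x * y * (x * y) = x * (y * x) * y := by group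
          _ = x * (x * y) * y := by rw [hcomm y hyP x hxP]
          _ = (x * x) * (y * y) := by group
          _ = 1 := by rw [hxx, hyy, one_mul]
      · intro e
        apply hxy
        calc x = (x * y) * y⁻¹ := by group
          _ = y⁻¹ := by rw [e, one_mul]
          _ = y := inv_eq hy
    have hxi : x ^ i = 1 ∨ x ^ i = x := by
      rcases Nat.even_or_odd i with ⟨k, hk⟩ | ⟨k, hk⟩
      · left
        rw [hk, ← two_mul, pow_mul, pow_two, hxx, one_pow]
      · right
        rw [hk, pow_succ, pow_mul, pow_two, hxx, one_pow, one_mul]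
    rcases hxi with e | e
    · rw [e, one_mul, centralizer_eq_M hH P (hnc P) hy hyP]
      exact inf_le_right
    · rw [e, centralizer_eq_M hH P (hnc P) hxy2 (Subgroup.mul_mem _ hxP hyP)]
      exact inf_le_right

/-- the trivial intersection case. -/
theorem main_of_TI (hTI : TI G) (P : Sylow 2 G) (hnn : ¬ (P : Subgroup G).Normal) :
    ∃ (F : Type) (_ : Field F) (_ : Fintype F), CharP F 2 ∧
      Nonempty (G ≃* Matrix.SpecialLinearGroup (Fin 2) F) := by
  have hcati := catiHyp hTI hH hnc P hnn
  have h2 : ∃ t ∈ M P, ∃ t' ∈ M P, orderOf t = 2 ∧ orderOf t' = 2 ∧ t ≠ t' := by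
    obtain ⟨x, hxP, y, hyP, hx, hy, hxy⟩ := exists_two_involutions hH P (hnc P)
    exact ⟨x, P_le_M hH P (hnc P) hxP, y, P_le_M hH P (hnc P) hyP, hx, hy, hxy⟩
  have hsimple : IsSimpleGroup G := isSimpleGroup_of_catiHyp hcati h2
    (fun N hN hodd => odd_normal_le_M hH hnc P N hN hodd)
  obtain ⟨F, fld, fin, f, hf, hcard, -, ⟨e⟩⟩ := Cfsg.Agent.Lib.H21.CATI.main hcati
  have hchar : CharP F 2 := by
    obtain ⟨n, hp, hn⟩ := FiniteField.card F (ringChar F)
    have hr : ringChar F = 2 := by
      have h2 : ringChar F ∣ 2 ^ f := by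
        rw [← hcard, hn]
        exact dvd_pow_self _ n.ne_zero
      have := (Nat.Prime.dvd_of_dvd_pow hp h2)
      exact (Nat.prime_dvd_prime_iff_eq hp Nat.prime_two).mp this
    have := ringChar.charP F
    rwa [hr] at this
  exact ⟨F, fld, fin, hchar, ⟨e.trans Cfsg.Agent.Lib.H18.psl2EquivSl2⟩⟩

end

end Cfsg.Agent.Lib.H4.AIC
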