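import Mathlib
import Cfsg.Agent.Lib.H5.DicksonTwo.OddOrder
import Cfsg.Agent.Lib.H18.SL2Char2Action
import Cfsg.Agent.Lib.H12.CardSL

set_option autoImplicit false
set_option linter.unusedSectionVars false

/-! A counting lemma in `SL₂(F)`, characteristic two. -/

namespace Cfsg.Agent.Lib.H4.AIC

variable {F : Type*} [Field F] [Fintype F] [CharP F 2]

/-- `SL₂(F)` is not the product of a subgroup of odd order and a commutative subgroup with at least
three elements containing an involution. -/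
theorem sl2_not_product (D U : Subgroup (Matrix.SpecialLinearGroup (Fin 2) F))
    (hD : Odd (Nat.card D)) (hU : ∀ a ∈ U, ∀ b ∈ U, a * b = b * a)
    {τ : Matrix.SpecialLinearGroup (Fin 2) F} (hτ : orderOf τ = 2) (hτU : τ ∈ U)
    (h3 : 3 ≤ Nat.card U)
    (hprod : ∀ s : Matrix.SpecialLinearGroup (Fin 2) F, ∃ d ∈ D, ∃ m ∈ U, s = d * m) : False := by
  classical
  have : Fact (Nat.Prime 2) := ⟨Nat.prime_two⟩
  have h2 : (2 : F) = 0 := CharTwo.two_eq_zero
  obtain ⟨f, -, hq⟩ := FiniteField.card F 2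
  have hq1 : 1 < Fintype.card F := Fintype.one_lt_card
  -- the bound for D
  have hDle : Nat.card D ≤ Fintype.card F + 1 := by
    obtain ⟨-, hdvd, -⟩ := Cfsg.Agent.Lib.H5.DicksonTwo.cyclic_of_odd (L := D) h2 hD
    rcases hdvd with hd | hd
    · have := Nat.le_of_dvd (by omega) hd
      omega
    · exact Nat.le_of_dvd (by omega) hd
  -- U is a 2-group
  have hUp : ∀ s : ℕ, s.Prime → s ∣ Nat.card U → s = 2 := by
    intro s hs hsd
    by_contra hs2
    have : Fact s.Prime := ⟨hs⟩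
    obtain ⟨⟨y, hyU⟩, hy⟩ := exists_prime_orderOf_dvd_card' s hsd
    rw [Subgroup.orderOf_mk] at hy
    have hcomm : Commute τ y := hU τ hτU y hyU
    have hcop : (orderOf τ).Coprime (orderOf y) := by
      rw [hτ, hy]
      exact (Nat.coprime_primes Nat.prime_two hs).mpr (fun e => hs2 e.symm)
    have := hcomm.orderOf_mul_eq_mul_orderOf_of_coprime hcop
    rw [hτ, hy] at this
    exact Cfsg.Agent.Lib.H18.sl2_no_two_mul s hs hs2 ⟨_, this⟩
  have hUpos : Nat.card U ≠ 0 := Nat.card_pos.ne'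
  have hUpow := Nat.eq_prime_pow_of_unique_prime_dvd hUpos (fun {d} hd hdvd => hUp d hd hdvd)
  obtain ⟨a, ha⟩ : ∃ a, Nat.card U = 2 ^ a := ⟨_, hUpow⟩
  -- |U| divides q
  have hUdvd : Nat.card U ∣ Fintype.card F * (Fintype.card F ^ 2 - 1) := by
    rw [← Cfsg.Agent.Lib.H12.card_SL2]
    exact Subgroup.card_subgroup_dvd_card U
  have hodd : Odd (Fintype.card F ^ 2 - 1) := by
    have he : Even (Fintype.card F ^ 2) := by
      rw [hq, ← pow_mul]
      exact (Nat.even_pow.mpr ⟨even_two, by positivity⟩)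
    have hpos : 0 < Fintype.card F ^ 2 := by positivity
    obtain ⟨m, hm⟩ := he
    exact ⟨m - 1, by omega⟩
  have hcop : (Nat.card U).Coprime (Fintype.card F ^ 2 - 1) := by
    rw [ha]
    apply Nat.Coprime.pow_left
    exact Nat.coprime_two_left.mpr hodd
  have hUq : Nat.card U ∣ Fintype.card F := hcop.dvd_of_dvd_mul_right hUdvd
  have hUle : Nat.card U ≤ Fintype.card F := Nat.le_of_dvd (by omega) hUq
  -- the product bound
  have hle : Nat.card (Matrix.SpecialLinearGroup (Fin 2) F) ≤ Nat.card D * Nat.card U := by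
    rw [← Nat.card_prod]
    apply Nat.card_le_card_of_surjective (fun p : ↥D × ↥U => (p.1 : Matrix.SpecialLinearGroup (Fin 2) F) * p.2)
    intro s
    obtain ⟨d, hd, m, hm, hs⟩ := hprod s
    exact ⟨⟨⟨d, hd⟩, ⟨m, hm⟩⟩, hs.symm⟩
  rw [Cfsg.Agent.Lib.H12.card_SL2] at hle
  have hq3 : 3 ≤ Fintype.card F := le_trans h3 hUle
  have h5 : Nat.card D * Nat.card U ≤ (Fintype.card F + 1) * Fintype.card F :=
    Nat.mul_le_mul hDle hUle
  have h6 : Fintype.card F * (Fintype.card F ^ 2 - 1) ≤ (Fintype.card F + 1) * Fintype.card F :=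
    le_trans hle h5
  generalize Fintype.card F = q at *
  have h7 : q ^ 2 - 1 ≤ q + 1 := by
    have : q * (q ^ 2 - 1) ≤ q * (q + 1) := by rw [mul_comm q (q + 1)]; exact h6
    exact Nat.le_of_mul_le_mul_left this (by omega)
  have h8 : 3 * q ≤ q ^ 2 := by nlinarith
  omega

end Cfsg.Agent.Lib.H4.AIC
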