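import Mathlib
import Cfsg.Prelude.Def_Involutions
import Cfsg.Agent.Lib.H4.AIC.A3
import Cfsg.Agent.Lib.H4.AIC.A5a

set_option autoImplicit false
set_option linter.unusedSectionVars false

/-! Commutative involution centralizers: trivial centre implies the trivial intersection property. -/

namespace Cfsg.Agent.Lib.H4.AIC

open Cfsg.Agent.Lib.H6.SE

/-- the conclusion of the theorem. -/
def Concl (G : Type*) [Group G] : Prop :=
  (∀ P : Sylow 2 G, IsCyclic ↥(P : Subgroup G)) ∨ (∀ P : Sylow 2 G, (P : Subgroup G).Normal) ∨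
    (∃ (F : Type) (_ : Field F) (_ : Fintype F) (A : Type) (_ : CommGroup A) (_ : Finite A),
      CharP F 2 ∧ Odd (Nat.card A) ∧
      Nonempty (G ≃* Matrix.SpecialLinearGroup (Fin 2) F × A))

variable {G : Type*} [Group G] [Finite G]

theorem three_le_card {H : Subgroup G} {a b : G} (ha : a ∈ H) (hb : b ∈ H) (ha1 : a ≠ 1)
    (hb1 : b ≠ 1) (hab : a ≠ b) : 3 ≤ Nat.card H := by
  classical
  have : Fintype H := Fintype.ofFinite H
  rw [Nat.card_eq_fintype_card]
  have : 2 < Fintype.card H := by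
    rw [Fintype.two_lt_card_iff]
    refine ⟨⟨a, ha⟩, ⟨b, hb⟩, 1, ?_, ?_, ?_⟩
    · intro e; exact hab (congrArg Subtype.val e)
    · intro e; exact ha1 (congrArg Subtype.val e)
    · intro e; exact hb1 (congrArg Subtype.val e)
  omega

/-- an involution of `X` is conjugate in `X` into a given Sylow 2-subgroup contained in `X`. -/
theorem exists_conj_mem_of_le {P : Sylow 2 G} {X : Subgroup G} (hPX : (P : Subgroup G) ≤ X) {t : G}
    (ht : orderOf t = 2) (htX : t ∈ X) : ∃ x ∈ X, x⁻¹ * t * x ∈ (P : Subgroup G) := by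
  have : Fact (Nat.Prime 2) := ⟨Nat.prime_two⟩
  have hp : IsPGroup 2 (Subgroup.zpowers (⟨t, htX⟩ : ↥X)) := by
    apply IsPGroup.of_card (n := 1)
    rw [Nat.card_zpowers, Subgroup.orderOf_mk, ht, pow_one]
  obtain ⟨R, hR⟩ := hp.exists_le_sylow
  obtain ⟨x, hx⟩ := MulAction.exists_smul_eq ↥X (P.subtype hPX) R
  have htR : (⟨t, htX⟩ : ↥X) ∈ (R : Subgroup ↥X) := hR (Subgroup.mem_zpowers _)
  rw [← hx, Sylow.coe_subgroup_smul, Subgroup.mem_pointwise_smul_iff_inv_smul_mem] at htR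
  have e : (MulAut.conj x)⁻¹ • (⟨t, htX⟩ : ↥X) = x⁻¹ * ⟨t, htX⟩ * x := by
    rw [← map_inv]
    simp [MulAut.smul_def]
  rw [e, Sylow.coe_subtype, Subgroup.mem_subgroupOf] at htR
  exact ⟨x, x.2, by simpa using htR⟩

section

variable (hH : Hyp G) (hnc : ∀ P : Sylow 2 G, ¬ IsCyclic (P : Subgroup G))

include hH hnc

/-- a proper subgroup containing the normalizer of a Sylow 2-subgroup is strongly embedded. -/
theorem stronglyEmbedded_of_normalizer_le (P : Sylow 2 G) (hnn : ¬ (P : Subgroup G).Normal)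
    {X : Subgroup G} (hNX : Subgroup.normalizer ((P : Subgroup G) : Set G) ≤ X) (hXtop : X ≠ ⊤) :
    Cfsg.IsStronglyEmbedded X := by
  have : Fact (Nat.Prime 2) := ⟨Nat.prime_two⟩
  have hSE := stronglyEmbedded hH hnc P hnn
  have hPX : (P : Subgroup G) ≤ X := le_trans Subgroup.le_normalizer hNX
  refine ⟨hXtop, ?_, ?_⟩
  · obtain ⟨t, htP, ht⟩ := exists_involution_mem hH hnc P
    have := orderOf_dvd_natCard (⟨t, hPX htP⟩ : ↥X)
    rw [Subgroup.orderOf_mk, ht] at this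
    exact even_iff_two_dvd.mpr this
  · intro g hg
    by_contra hodd
    rw [Nat.not_odd_iff_even, even_iff_two_dvd] at hodd
    obtain ⟨⟨t, htm⟩, ht⟩ := exists_prime_orderOf_dvd_card' 2 hodd
    rw [Subgroup.orderOf_mk] at ht
    rw [Subgroup.mem_inf, Cfsg.Agent.Lib.H6.mem_map_conj_iff] at htm
    obtain ⟨x₁, hx₁, h1⟩ := exists_conj_mem_of_le hPX ht htm.1
    obtain ⟨x₂, hx₂, h2⟩ := exists_conj_mem_of_le hPX (orderOf_conj' ht g) htm.2
    have hc : x₁⁻¹ * g * x₂ ∈ Subgroup.normalizer ((P : Subgroup G) : Set G) := by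
      apply mem_of_conj_mem hSE (orderOf_conj' ht x₁) (Subgroup.le_normalizer h1)
      have e : (x₁⁻¹ * g * x₂)⁻¹ * (x₁⁻¹ * t * x₁) * (x₁⁻¹ * g * x₂) =
          x₂⁻¹ * (g⁻¹ * t * g) * x₂ := by group
      rw [e]; exact Subgroup.le_normalizer h2
    apply hg
    have : g = x₁ * (x₁⁻¹ * g * x₂) * x₂⁻¹ := by group
    rw [this]; exact X.mul_mem (X.mul_mem hx₁ (hNX hc)) (X.inv_mem hx₂)

/-- trivial centre implies the trivial intersection property, by induction. -/
theorem TI_of_center (hnn : ∀ P : Sylow 2 G, ¬ (P : Subgroup G).Normal)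
    (hZ : Subgroup.center G = ⊥) (IH : ∀ X : Subgroup G, X ≠ ⊤ → Concl ↥X) : TI G := by
  have : Fact (Nat.Prime 2) := ⟨Nat.prime_two⟩
  intro P Q hPQ
  rw [eq_bot_iff]
  intro b hb
  rw [Subgroup.mem_bot]
  by_contra hb1
  obtain ⟨hbP, hbQ⟩ := hb
  obtain ⟨X, hXdef⟩ : ∃ X, X = Subgroup.centralizer ({b} : Set G) := ⟨_, rfl⟩
  have hmemX : ∀ c : G, c ∈ X ↔ c * b = b * c := by
    intro c; rw [hXdef, Subgroup.mem_centralizer_singleton_iff]
  have hXtop : X ≠ ⊤ := by
    intro h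
    apply hb1
    rw [← Subgroup.mem_bot, ← hZ, Subgroup.mem_center_iff]
    intro g
    have : g ∈ X := by rw [h]; trivial
    exact (hmemX g).mp this
  have hMPX : M P ≤ X := fun c hc => (hmemX c).mpr (M_comm hH P (hnc P) c hc b hbP)
  have hMQX : M Q ≤ X := fun c hc => (hmemX c).mpr (M_comm hH Q (hnc Q) c hc b hbQ)
  have hPX : (P : Subgroup G) ≤ X := le_trans (P_le_M hH P (hnc P)) hMPX
  have hQX : (Q : Subgroup G) ≤ X := le_trans (P_le_M hH Q (hnc Q)) hMQX
  obtain ⟨u, huQ, hu⟩ := exists_involution_mem hH hnc Q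
  have huN : u ∉ Subgroup.normalizer ((P : Subgroup G) : Set G) := fun h =>
    hPQ (sylow_eq_of_involution_mem hH hnc P Q hu (mem_of_involution_normalizer P hu h) huQ)
  obtain ⟨t₀, ht₀P, t', ht'P, ht₀, ht', hne⟩ := exists_two_involutions hH P (hnc P)
  have hSE := stronglyEmbedded hH hnc P (hnn P)
  have hNX : Subgroup.normalizer ((P : Subgroup G) : Set G) ≤ X := by
    intro h hh
    obtain ⟨k, -, -, hkc, hy⟩ := decomp hSE hu huN ht₀ (Subgroup.le_normalizer ht₀P) hh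
    have hkX : k ∈ X := by
      refine (Subgroup.closure_le X).mpr ?_ hkc
      intro z hz
      rcases hz with rfl | rfl | rfl
      · exact hPX ((Subgroup.mem_normalizer_iff.mp hh t₀).mp ht₀P)
      · exact X.mul_mem (X.mul_mem (hQX huQ) (hPX ht₀P)) (X.inv_mem (hQX huQ))
      · exact hQX huQ
    have hyM : k⁻¹ * h ∈ M P := by
      rw [← centralizer_eq_M hH P (hnc P) ht₀ ht₀P, Subgroup.mem_centralizer_singleton_iff]
      exact hy
    have : h = k * (k⁻¹ * h) := by group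
    rw [this]; exact X.mul_mem hkX (hMPX hyM)
  have hXSE := stronglyEmbedded_of_normalizer_le hH hnc P (hnn P) hNX hXtop
  obtain ⟨g, hg⟩ : ∃ g : G, g ∉ X := by
    by_contra hcon
    push Not at hcon
    exact hXtop (eq_top_iff.2 fun x _ => hcon x)
  have hw : orderOf (g * t₀ * g⁻¹) = 2 := orderOf_conj ht₀ g
  have hwX : g * t₀ * g⁻¹ ∉ X := fun h => hg (mem_of_conj_mem' hXSE ht₀ (hPX ht₀P) h)
  have hfac : ∀ x ∈ X, ∃ k ∈ X ⊓ X.map (MulAut.conj (g * t₀ * g⁻¹)).toMonoidHom,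
      k⁻¹ * x ∈ M P := by
    intro x hx
    obtain ⟨k, hkD, -, -, hy⟩ := decomp hXSE hw hwX ht₀ (hPX ht₀P) hx
    refine ⟨k, hkD, ?_⟩
    rw [← centralizer_eq_M hH P (hnc P) ht₀ ht₀P, Subgroup.mem_centralizer_singleton_iff]
    exact hy
  rcases IH X hXtop with hc | hn | ⟨F, _, _, A, _, _, hchar, hoddA, ⟨e⟩⟩
  · apply hnc P
    have h1 := hc (P.subtype hPX)
    rw [Sylow.coe_subtype] at h1
    exact isCyclic_of_surjective (Subgroup.subgroupOfEquivOfLe hPX)
      (Subgroup.subgroupOfEquivOfLe hPX).surjective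
  · apply hPQ
    have h1 := hn (P.subtype hPX)
    obtain ⟨x, hx⟩ := MulAction.exists_smul_eq ↥X (P.subtype hPX) (Q.subtype hQX)
    have : x • (P.subtype hPX) = P.subtype hPX := Sylow.smul_eq_of_normal
    rw [this] at hx
    exact Sylow.subtype_injective hx
  · -- the counting argument
    obtain ⟨ρ, hρ⟩ : ∃ ρ : ↥X →* Matrix.SpecialLinearGroup (Fin 2) F,
        ρ = (MonoidHom.fst _ _).comp e.toMonoidHom := ⟨_, rfl⟩
    have hρsurj : Function.Surjective ρ := by
      intro s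
      refine ⟨e.symm (s, 1), ?_⟩
      rw [hρ]
      simp
    have hρinv : ∀ x : ↥X, orderOf x = 2 → orderOf (ρ x) = 2 := by
      intro x hx
      have hxx : x * x = 1 := sq_eq_one hx
      apply orderOf_eq_prime
      · rw [pow_two, ← map_mul, hxx, map_one]
      · intro h1
        have h2 : (e x).1 = 1 := by rw [hρ] at h1; exact h1
        have h3 : (e x).2 * (e x).2 = 1 := by
          have := congrArg Prod.snd (congrArg e hxx)
          simpa using this
        have h4 : (e x).2 ≠ 1 := by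
          intro h5
          have : e x = 1 := Prod.ext h2 h5
          have hx1 : x = 1 := by
            have := congrArg e.symm this
            simpa using this
          exact ne_one hx hx1
        have h5 : orderOf (e x).2 = 2 := orderOf_eq_prime (by rw [pow_two]; exact h3) h4
        have h6 := orderOf_dvd_natCard (e x).2
        rw [h5] at h6
        obtain ⟨m, hm⟩ := hoddA
        omega
    have ht₀X : t₀ ∈ X := hPX ht₀P
    have ht'X : t' ∈ X := hPX ht'P
    have ht₀t' : orderOf (t₀ * t'⁻¹) = 2 := by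
      have hcomm := P_comm hH P (hnc P) t₀ ht₀P t' ht'P
      rw [inv_eq ht']
      apply orderOf_eq_prime
      · rw [pow_two]
        calc t₀ * t' * (t₀ * t') = t₀ * (t' * t₀) * t' := by group
          _ = t₀ * (t₀ * t') * t' := by rw [hcomm]
          _ = (t₀ * t₀) * (t' * t') := by group
          _ = 1 := by rw [sq_eq_one ht₀, sq_eq_one ht', one_mul]
      · intro h1
        apply hne
        calc t₀ = (t₀ * t') * t'⁻¹ := by group
          _ = t'⁻¹ := by rw [h1, one_mul]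
          _ = t' := inv_eq ht'
    apply sl2_not_product (F := F)
      (((X ⊓ X.map (MulAut.conj (g * t₀ * g⁻¹)).toMonoidHom).subgroupOf X).map ρ)
      (((M P).subgroupOf X).map ρ) ?_ ?_ (τ := ρ ⟨t₀, ht₀X⟩) ?_ ?_ ?_ ?_
    · -- odd order
      have h1 := hXSE.2.2 _ hwX
      have h2 : Nat.card ↥((X ⊓ X.map (MulAut.conj (g * t₀ * g⁻¹)).toMonoidHom).subgroupOf X) =
          Nat.card ↥(X ⊓ X.map (MulAut.conj (g * t₀ * g⁻¹)).toMonoidHom) :=
        Nat.card_congr (Subgroup.subgroupOfEquivOfLe inf_le_left).toEquiv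
      have h3 := Subgroup.card_map_dvd
        ((X ⊓ X.map (MulAut.conj (g * t₀ * g⁻¹)).toMonoidHom).subgroupOf X) ρ
      rw [h2] at h3
      exact Odd.of_dvd_nat h1 h3
    · -- commutative
      rintro a ⟨a', ha', rfl⟩ c ⟨c', hc', rfl⟩
      rw [SetLike.mem_coe, Subgroup.mem_subgroupOf] at ha' hc'
      have := M_comm hH P (hnc P) _ ha' _ hc'
      rw [← map_mul, ← map_mul]
      congr 1
      exact Subtype.ext this
    · exact hρinv _ (by rw [Subgroup.orderOf_mk]; exact ht₀)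
    · refine ⟨⟨t₀, ht₀X⟩, ?_, rfl⟩
      rw [SetLike.mem_coe, Subgroup.mem_subgroupOf]
      exact P_le_M hH P (hnc P) ht₀P
    · have hτ := hρinv ⟨t₀, ht₀X⟩ (by rw [Subgroup.orderOf_mk]; exact ht₀)
      have hτ' := hρinv ⟨t', ht'X⟩ (by rw [Subgroup.orderOf_mk]; exact ht')
      apply three_le_card (a := ρ ⟨t₀, ht₀X⟩) (b := ρ ⟨t', ht'X⟩)
      · refine ⟨⟨t₀, ht₀X⟩, ?_, rfl⟩
        rw [SetLike.mem_coe, Subgroup.mem_subgroupOf]
        exact P_le_M hH P (hnc P) ht₀P
      · refine ⟨⟨t', ht'X⟩, ?_, rfl⟩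
        rw [SetLike.mem_coe, Subgroup.mem_subgroupOf]
        exact P_le_M hH P (hnc P) ht'P
      · exact ne_one hτ
      · exact ne_one hτ'
      · intro h1
        have h2 : ρ (⟨t₀, ht₀X⟩ * ⟨t', ht'X⟩⁻¹) = 1 := by
          rw [map_mul, map_inv, h1, mul_inv_cancel]
        have h3 := hρinv (⟨t₀, ht₀X⟩ * ⟨t', ht'X⟩⁻¹) (by
          have : ((⟨t₀, ht₀X⟩ * ⟨t', ht'X⟩⁻¹ : ↥X) : G) = t₀ * t'⁻¹ := rfl
          rw [← Subgroup.orderOf_coe, this]; exact ht₀t')
        exact ne_one h3 h2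
    · intro s
      obtain ⟨x, rfl⟩ := hρsurj s
      obtain ⟨k, hkD, hkM⟩ := hfac x x.2
      have hkX : k ∈ X := (Subgroup.mem_inf.mp hkD).1
      refine ⟨ρ ⟨k, hkX⟩, ⟨⟨k, hkX⟩, ?_, rfl⟩, ρ (⟨k, hkX⟩⁻¹ * x), ⟨⟨k, hkX⟩⁻¹ * x, ?_, rfl⟩, ?_⟩
      · rw [SetLike.mem_coe, Subgroup.mem_subgroupOf]; exact hkD
      · rw [SetLike.mem_coe, Subgroup.mem_subgroupOf]; exact hkM
      · rw [← map_mul]; congr 1; group

end

end Cfsg.Agent.Lib.H4.AIC
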