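import Mathlib
import Cfsg.Agent.Lib.H4.AIC.A1

set_option autoImplicit false
set_option linter.unusedSectionVars false

/-! Commutative involution centralizers: general lemmas for the central extension step. -/

namespace Cfsg.Agent.Lib.H4.AIC

open Cfsg.Agent.Lib.H6.SE

variable {G : Type*} [Group G]

/-- a finite group of odd order has no involution. -/
theorem not_orderOf_two_of_odd [Finite G] (hodd : Odd (Nat.card G)) (x : G) : orderOf x ≠ 2 := by
  intro h
  have := orderOf_dvd_natCard x
  rw [h] at this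
  obtain ⟨m, hm⟩ := hodd
  omega

/-- in a finite group of odd order an element with trivial square is trivial. -/
theorem eq_one_of_sq_of_odd [Finite G] (hodd : Odd (Nat.card G)) {x : G} (hx : x * x = 1) :
    x = 1 := by
  by_contra h1
  exact not_orderOf_two_of_odd hodd x (orderOf_eq_prime (by rw [pow_two]; exact hx) h1)

theorem mem_odd_sq {N : Subgroup G} [Finite N] (hodd : Odd (Nat.card N)) {x : G} (hxN : x ∈ N)
    (hx : x * x = 1) : x = 1 := by
  have : (⟨x, hxN⟩ : ↥N) = 1 := eq_one_of_sq_of_odd hodd (Subtype.ext hx)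
  exact congrArg Subtype.val this

/-- an element whose commutator with an involution lies in a central subgroup of odd order
commutes with the involution. -/
theorem commute_of_commutator_mem {N : Subgroup G} [Finite N] (hN : N ≤ Subgroup.center G)
    (hodd : Odd (Nat.card N)) {t c : G} (ht : orderOf t = 2) (h : c * t * c⁻¹ * t⁻¹ ∈ N) :
    c * t = t * c := by
  have htt := sq_eq_one ht
  have hz := Subgroup.mem_center_iff.mp (hN h)
  have h1 : c * t * c⁻¹ = (c * t * c⁻¹ * t⁻¹) * t := by group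
  have h2 : (c * t * c⁻¹) * (c * t * c⁻¹) = 1 := by
    calc (c * t * c⁻¹) * (c * t * c⁻¹) = c * (t * t) * c⁻¹ := by group
      _ = 1 := by rw [htt]; group
  have h3 : (c * t * c⁻¹ * t⁻¹) * (c * t * c⁻¹ * t⁻¹) = 1 := by
    have e : ((c * t * c⁻¹ * t⁻¹) * t) * ((c * t * c⁻¹ * t⁻¹) * t) =
        (c * t * c⁻¹ * t⁻¹) * (t * (c * t * c⁻¹ * t⁻¹)) * t := by group
    rw [← h1] at e
    rw [h2, hz t] at e
    calc (c * t * c⁻¹ * t⁻¹) * (c * t * c⁻¹ * t⁻¹)
        = ((c * t * c⁻¹ * t⁻¹) * ((c * t * c⁻¹ * t⁻¹) * t) * t) * (t * t)⁻¹ := by group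
      _ = 1 := by rw [← e, htt]; group
  have h4 := mem_odd_sq hodd h h3
  calc c * t = (c * t * c⁻¹ * t⁻¹) * t * c := by group
    _ = t * c := by rw [h4, one_mul]

/-- involutions lift along a surjection with kernel of odd order. -/
theorem exists_involution_lift [Finite G] {S : Type*} [Group S] (ρ : G →* S)
    (hρ : Function.Surjective ρ) (hodd : Odd (Nat.card ρ.ker)) {s : S} (hs : orderOf s = 2) :
    ∃ t : G, orderOf t = 2 ∧ ρ t = s := by
  obtain ⟨x, rfl⟩ := hρ s
  have hss := sq_eq_one hs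
  obtain ⟨m, hm⟩ := hodd
  have hx2 : x * x ∈ ρ.ker := by rw [MonoidHom.mem_ker, map_mul]; exact hss
  have h1 : (x * x) ^ Nat.card ρ.ker = 1 := by
    have := pow_card_eq_one' (G := ↥ρ.ker) (x := ⟨x * x, hx2⟩)
    exact congrArg Subtype.val this
  have hρt : ρ (x ^ Nat.card ρ.ker) = ρ x := by
    rw [map_pow, hm, pow_succ, pow_mul, pow_two, hss, one_pow, one_mul]
  refine ⟨x ^ Nat.card ρ.ker, ?_, hρt⟩
  apply orderOf_eq_prime
  · rw [pow_two, ← (Commute.refl x).mul_pow, h1]
  · intro h
    rw [h, map_one] at hρt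
    exact ne_one hs hρt.symm

/-- a subgroup with two distinct involutions is not cyclic. -/
theorem not_isCyclic_of_two_involutions [Finite G] {H : Subgroup G} {a b : G} (ha : a ∈ H)
    (hb : b ∈ H) (ha2 : orderOf a = 2) (hb2 : orderOf b = 2) (hab : a ≠ b) : ¬ IsCyclic H := by
  classical
  intro hc
  have : Fintype H := Fintype.ofFinite H
  have h1 := IsCyclic.card_pow_eq_one_le (α := ↥H) (n := 2) (by norm_num)
  have h2 : 2 < (Finset.univ.filter (fun x : ↥H => x ^ 2 = 1)).card := by
    rw [Finset.two_lt_card]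
    refine ⟨⟨a, ha⟩, ?_, ⟨b, hb⟩, ?_, 1, ?_, ?_, ?_, ?_⟩
    · simp only [Finset.mem_filter, Finset.mem_univ, true_and]
      exact Subtype.ext (by rw [pow_two]; exact sq_eq_one ha2)
    · simp only [Finset.mem_filter, Finset.mem_univ, true_and]
      exact Subtype.ext (by rw [pow_two]; exact sq_eq_one hb2)
    · simp
    · intro e; exact hab (congrArg Subtype.val e)
    · intro e; exact ne_one ha2 (congrArg Subtype.val e)
    · intro e; exact ne_one hb2 (congrArg Subtype.val e)
  omega

/-- the subgroup generated by the involutions. -/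
def invClosure (G : Type*) [Group G] : Subgroup G :=
  Subgroup.closure {t : G | orderOf t = 2}

theorem invClosure_normal : (invClosure G).Normal := by
  constructor
  intro n hn g
  unfold invClosure at hn ⊢
  induction hn using Subgroup.closure_induction with
  | mem x hx =>
    apply Subgroup.subset_closure
    exact orderOf_conj hx g
  | one => simp
  | mul x y _ _ hx hy =>
    have : g * (x * y) * g⁻¹ = (g * x * g⁻¹) * (g * y * g⁻¹) := by group
    rw [this]; exact Subgroup.mul_mem _ hx hy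
  | inv x _ hx =>
    have : g * x⁻¹ * g⁻¹ = (g * x * g⁻¹)⁻¹ := by group
    rw [this]; exact Subgroup.inv_mem _ hx

theorem mem_invClosure {t : G} (ht : orderOf t = 2) : t ∈ invClosure G :=
  Subgroup.subset_closure ht

/-- a hom into a group of odd order kills the involutions, hence the subgroup they generate. -/
theorem invClosure_le_ker {A : Type*} [Group A] [Finite A] (hodd : Odd (Nat.card A))
    (V : G →* A) : invClosure G ≤ V.ker := by
  unfold invClosure
  rw [Subgroup.closure_le]
  intro t ht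
  rw [SetLike.mem_coe, MonoidHom.mem_ker]
  apply eq_one_of_sq_of_odd hodd
  rw [← map_mul, sq_eq_one ht, map_one]

/-- an element commuting with all involutions commutes with the subgroup they generate. -/
theorem commute_invClosure {c : G} (hc : ∀ t : G, orderOf t = 2 → c * t = t * c) {l : G}
    (hl : l ∈ invClosure G) : c * l = l * c := by
  have : invClosure G ≤ Subgroup.centralizer ({c} : Set G) := by
    unfold invClosure
    rw [Subgroup.closure_le]
    intro t ht
    rw [SetLike.mem_coe, Subgroup.mem_centralizer_singleton_iff]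
    exact (hc t ht).symm
  exact (Subgroup.mem_centralizer_singleton_iff.mp (this hl)).symm

open scoped IsMulCommutative in
/-- the transfer into a commutative subgroup of odd order. -/
theorem pow_index_eq_one_of_mem_invClosure [Finite G] {H : Subgroup G}
    (hcomm : ∀ a ∈ H, ∀ b ∈ H, a * b = b * a) (hodd : Odd (Nat.card H)) {x : G}
    (hxZ : x ∈ Subgroup.center G) (hxL : x ∈ invClosure G) : x ^ H.index = 1 := by
  have : IsMulCommutative H := ⟨⟨fun a b => Subtype.ext (hcomm a a.2 b b.2)⟩⟩
  have key : ∀ (k : ℕ) (g₀ : G), g₀⁻¹ * x ^ k * g₀ ∈ H → g₀⁻¹ * x ^ k * g₀ = x ^ k := by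
    intro k g₀ _
    have := Subgroup.mem_center_iff.mp (Subgroup.pow_mem _ hxZ k) g₀
    calc g₀⁻¹ * x ^ k * g₀ = g₀⁻¹ * (x ^ k * g₀) := by group
      _ = g₀⁻¹ * (g₀ * x ^ k) := by rw [this]
      _ = x ^ k := by group
  have h1 := MonoidHom.transfer_eq_pow (MonoidHom.id H) x key
  have h2 : MonoidHom.transfer (MonoidHom.id H) x = 1 :=
    MonoidHom.mem_ker.mp (invClosure_le_ker hodd _ hxL)
  rw [h2] at h1
  have := congrArg Subtype.val h1
  simpa using this.symm

/-- a subgroup whose image under a hom with central kernel is cyclic is commutative. -/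
theorem comm_of_central_cyclic {S : Type*} [Group S] (ρ : G →* S)
    (hker : ρ.ker ≤ Subgroup.center G) (R : Subgroup S) [hR : IsCyclic R]
    (hρ : Function.Surjective ρ) :
    ∀ a ∈ R.comap ρ, ∀ b ∈ R.comap ρ, a * b = b * a := by
  obtain ⟨⟨r₀, hr₀R⟩, hgen⟩ := hR.exists_generator
  obtain ⟨h₀, rfl⟩ := hρ r₀
  have key : ∀ a ∈ R.comap ρ, ∃ (i : ℤ) (z : G), z ∈ Subgroup.center G ∧ a = h₀ ^ i * z := by
    intro a ha
    rw [Subgroup.mem_comap] at ha
    obtain ⟨i, hi⟩ := Subgroup.mem_zpowers_iff.mp (hgen ⟨ρ a, ha⟩)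
    have hi' : ρ h₀ ^ i = ρ a := by
      have := congrArg Subtype.val hi
      simpa using this
    refine ⟨i, (h₀ ^ i)⁻¹ * a, ?_, by group⟩
    apply hker
    rw [MonoidHom.mem_ker, map_mul, map_inv, map_zpow, hi', inv_mul_cancel]
  intro a ha b hb
  obtain ⟨i, z, hz, rfl⟩ := key a ha
  obtain ⟨j, w, hw, rfl⟩ := key b hb
  rw [Subgroup.mem_center_iff] at hz hw
  have hcomm : h₀ ^ i * h₀ ^ j = h₀ ^ j * h₀ ^ i := by
    rw [← zpow_add, ← zpow_add, add_comm]
  calc h₀ ^ i * z * (h₀ ^ j * w) = h₀ ^ i * (z * h₀ ^ j) * w := by group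
    _ = h₀ ^ i * (h₀ ^ j * z) * w := by rw [hz]
    _ = (h₀ ^ i * h₀ ^ j) * (z * w) := by group
    _ = (h₀ ^ j * h₀ ^ i) * (w * z) := by rw [hcomm, hw z]
    _ = h₀ ^ j * (h₀ ^ i * w) * z := by group
    _ = h₀ ^ j * (w * h₀ ^ i) * z := by rw [hw]
    _ = h₀ ^ j * w * (h₀ ^ i * z) := by group

end Cfsg.Agent.Lib.H4.AIC
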