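import Mathlib
import Cfsg.Agent.Lib.H4.AIC.A2
import Cfsg.Agent.Lib.H4.AIC.A6a

set_option autoImplicit false
set_option linter.unusedSectionVars false

/-! Commutative involution centralizers: the quotient by a central subgroup of odd order. -/

namespace Cfsg.Agent.Lib.H4.AIC

open Cfsg.Agent.Lib.H6.SE

variable {G : Type*} [Group G]

/-- a hom with kernel of odd order preserves involutions. -/
theorem orderOf_map_eq_two [Finite G] {S : Type*} [Group S] (ρ : G →* S)
    (hodd : Odd (Nat.card ρ.ker)) {t : G} (ht : orderOf t = 2) : orderOf (ρ t) = 2 := by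
  apply orderOf_eq_prime
  · rw [pow_two, ← map_mul, sq_eq_one ht, map_one]
  · intro h
    have : (⟨t, h⟩ : ↥ρ.ker) = 1 := eq_one_of_sq_of_odd hodd (Subtype.ext (sq_eq_one ht))
    exact ne_one ht (congrArg Subtype.val this)

theorem orderOf_mul_inv_eq_two {t t' : G} (hcomm : t * t' = t' * t) (ht : orderOf t = 2)
    (ht' : orderOf t' = 2) (hne : t ≠ t') : orderOf (t * t'⁻¹) = 2 := by
  rw [inv_eq ht']
  apply orderOf_eq_prime
  · rw [pow_two]
    calc t * t' * (t * t') = t * (t' * t) * t' := by group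
      _ = t * (t * t') * t' := by rw [hcomm]
      _ = (t * t) * (t' * t') := by group
      _ = 1 := by rw [sq_eq_one ht, sq_eq_one ht', one_mul]
  · intro h1
    apply hne
    calc t = (t * t') * t'⁻¹ := by group
      _ = t'⁻¹ := by rw [h1, one_mul]
      _ = t' := inv_eq ht'

/-- a hom with kernel of odd order is injective on commuting involutions. -/
theorem map_ne_of_involutions [Finite G] {S : Type*} [Group S] (ρ : G →* S)
    (hodd : Odd (Nat.card ρ.ker)) {t t' : G} (hcomm : t * t' = t' * t) (ht : orderOf t = 2)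
    (ht' : orderOf t' = 2) (hne : t ≠ t') : ρ t ≠ ρ t' := by
  intro h
  have h1 := orderOf_map_eq_two ρ hodd (orderOf_mul_inv_eq_two hcomm ht ht' hne)
  rw [map_mul, map_inv, h, mul_inv_cancel] at h1
  simp at h1

/-- a Sylow 2-subgroup contained in the normalizer of another one coincides with it. -/
theorem sylow_eq_of_le_normalizer [Finite G] (P Q : Sylow 2 G)
    (h : (Q : Subgroup G) ≤ Subgroup.normalizer ((P : Subgroup G) : Set G)) : Q = P := by
  have hsup : IsPGroup 2 ((Q : Subgroup G) ⊔ (P : Subgroup G) : Subgroup G) :=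
    Q.2.to_sup_of_normal_right' P.2 h
  have h1 : (Q : Subgroup G) ⊔ (P : Subgroup G) = Q := Q.is_maximal' hsup le_sup_left
  have h2 : (Q : Subgroup G) ⊔ (P : Subgroup G) = P := P.is_maximal' hsup le_sup_right
  exact Sylow.ext (h1.symm.trans h2)

section

variable [Finite G] {N : Subgroup G} [N.Normal] (hN : N ≤ Subgroup.center G)
  (hoddN : Odd (Nat.card N))

include hN hoddN

theorem odd_ker_mk' : Odd (Nat.card (QuotientGroup.mk' N).ker) := by
  rw [QuotientGroup.ker_mk']; exact hoddN

/-- the hypothesis passes to the quotient by a central subgroup of odd order. -/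
theorem hyp_quotient (hH : Hyp G) : Hyp (G ⧸ N) := by
  intro tb htb ab bb ha hb
  obtain ⟨t, ht, rfl⟩ := exists_involution_lift (QuotientGroup.mk' N)
    (QuotientGroup.mk'_surjective N) (odd_ker_mk' hN hoddN) htb
  induction ab using QuotientGroup.induction_on with
  | H a =>
    induction bb using QuotientGroup.induction_on with
    | H b =>
      have key : ∀ c : G, (c : G ⧸ N) * (QuotientGroup.mk' N t) = (QuotientGroup.mk' N t) * (c : G ⧸ N) →
          c * t = t * c := by
        intro c hc
        apply commute_of_commutator_mem hN hoddN ht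
        rw [← QuotientGroup.eq_one_iff]
        have hc' : (c : G ⧸ N) * (t : G ⧸ N) = (t : G ⧸ N) * (c : G ⧸ N) := hc
        calc ((c * t * c⁻¹ * t⁻¹ : G) : G ⧸ N)
            = ((c : G ⧸ N) * (t : G ⧸ N)) * (c : G ⧸ N)⁻¹ * (t : G ⧸ N)⁻¹ := by
              simp [QuotientGroup.mk_mul, QuotientGroup.mk_inv]
          _ = 1 := by rw [hc']; group
      have h1 := hH t ht a b (key a ha) (key b hb)
      calc ((a : G ⧸ N)) * (b : G ⧸ N) = ((a * b : G) : G ⧸ N) := rfl
        _ = ((b * a : G) : G ⧸ N) := by rw [h1]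
        _ = (b : G ⧸ N) * (a : G ⧸ N) := rfl

variable (hH : Hyp G) (hnc : ∀ P : Sylow 2 G, ¬ IsCyclic (P : Subgroup G))

include hH hnc

theorem not_all_cyclic_quotient : ¬ ∀ Pb : Sylow 2 (G ⧸ N), IsCyclic (Pb : Subgroup (G ⧸ N)) := by
  have : Fact (Nat.Prime 2) := ⟨Nat.prime_two⟩
  intro hall
  obtain ⟨P⟩ : Nonempty (Sylow 2 G) := inferInstance
  obtain ⟨t, htP, t', ht'P, ht, ht', hne⟩ := exists_two_involutions hH P (hnc P)
  have hcomm := P_comm hH P (hnc P) t htP t' ht'P
  have hodd := odd_ker_mk' hN hoddN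
  have h1 := hall (P.mapSurjective (QuotientGroup.mk'_surjective N))
  rw [Sylow.coe_mapSurjective] at h1
  exact not_isCyclic_of_two_involutions (Subgroup.mem_map_of_mem _ htP)
    (Subgroup.mem_map_of_mem _ ht'P) (orderOf_map_eq_two _ hodd ht) (orderOf_map_eq_two _ hodd ht')
    (map_ne_of_involutions _ hodd hcomm ht ht' hne) h1

omit hH hnc in
theorem not_all_normal_quotient (hnn : ∀ P : Sylow 2 G, ¬ (P : Subgroup G).Normal) :
    ¬ ∀ Pb : Sylow 2 (G ⧸ N), (Pb : Subgroup (G ⧸ N)).Normal := by
  have : Fact (Nat.Prime 2) := ⟨Nat.prime_two⟩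
  intro hall
  obtain ⟨P⟩ : Nonempty (Sylow 2 G) := inferInstance
  apply hnn P
  rw [← Subgroup.normalizer_eq_top_iff, eq_top_iff]
  intro g _
  have hle : ((g • P : Sylow 2 G) : Subgroup G) ≤ Subgroup.normalizer ((P : Subgroup G) : Set G) := by
    intro y hy
    have hnorm := hall (P.mapSurjective (QuotientGroup.mk'_surjective N))
    obtain ⟨c, hc⟩ := MulAction.exists_smul_eq (G ⧸ N)
      (P.mapSurjective (QuotientGroup.mk'_surjective N))
      ((g • P).mapSurjective (QuotientGroup.mk'_surjective N))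
    have hfix : c • (P.mapSurjective (QuotientGroup.mk'_surjective N)) =
        P.mapSurjective (QuotientGroup.mk'_surjective N) := Sylow.smul_eq_of_normal
    rw [hfix] at hc
    have h1 : QuotientGroup.mk' N y ∈
        (((g • P).mapSurjective (QuotientGroup.mk'_surjective N) : Sylow 2 (G ⧸ N)) :
          Subgroup (G ⧸ N)) := by
      rw [Sylow.coe_mapSurjective]
      exact Subgroup.mem_map_of_mem _ hy
    rw [← hc, Sylow.coe_mapSurjective] at h1
    obtain ⟨p, hp, hpy⟩ := h1
    have h2 : p⁻¹ * y ∈ N := by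
      rw [← QuotientGroup.eq]
      exact hpy
    have h3 : y = p * (p⁻¹ * y) := by group
    rw [h3]
    exact Subgroup.mul_mem _ (Subgroup.le_normalizer hp) (Subgroup.center_le_normalizer _ (hN h2))
  have := sylow_eq_of_le_normalizer P (g • P) hle
  exact Sylow.smul_eq_iff_mem_normalizer.mp this

end

end Cfsg.Agent.Lib.H4.AIC
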