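import Mathlib
import Cfsg.Agent.Lib.H4.AIC.A5b
import Cfsg.Agent.Lib.H4.AIC.A6b
import Cfsg.Agent.Lib.H2.SL2CyclicSylow

set_option autoImplicit false
set_option linter.unusedSectionVars false

/-! Commutative involution centralizers: the central extension step. -/

namespace Cfsg.Agent.Lib.H4.AIC

open Cfsg.Agent.Lib.H6.SE

/-- packaging an isomorphism into the conclusion (universe transport of the second factor). -/
theorem concl_of_mulEquiv {G : Type*} [Group G] {F : Type} [Field F] [Fintype F] [CharP F 2]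
    {K : Type*} [Group K] [Finite K] (hcomm : ∀ a b : K, a * b = b * a)
    (hodd : Odd (Nat.card K)) (e : G ≃* Matrix.SpecialLinearGroup (Fin 2) F × K) : Concl G := by
  let _ : CommGroup K := { (inferInstance : Group K) with mul_comm := hcomm }
  right; right
  refine ⟨F, inferInstance, inferInstance, Shrink.{0} K, inferInstance,
    Finite.of_equiv K (equivShrink.{0} K), inferInstance, ?_, ?_⟩
  · rw [← Nat.card_congr (equivShrink.{0} K)]; exact hodd
  · exact ⟨e.trans (MulEquiv.prodCongr (MulEquiv.refl _)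
      (Shrink.mulEquiv : Shrink.{0} K ≃* K).symm)⟩

variable {G : Type*} [Group G]

/-- the internal direct product decomposition along a hom with central kernel. -/
theorem mulEquiv_prod_of_complement {S : Type*} [Group S] (ρ : G →* S) (L : Subgroup G)
    (hLtop : L.map ρ = ⊤) (hLK : L ⊓ ρ.ker = ⊥) (hK : ρ.ker ≤ Subgroup.center G) :
    Nonempty (G ≃* S × ↥ρ.ker) := by
  let f : ↥L × ↥ρ.ker →* G := MonoidHom.noncommCoprod L.subtype ρ.ker.subtype
    (fun l k => Subgroup.mem_center_iff.mp (hK k.2) l)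
  have hf : ∀ l : ↥L, ∀ k : ↥ρ.ker, f (l, k) = (l : G) * (k : G) := fun l k => rfl
  have hinj : Function.Injective f := by
    rw [injective_iff_map_eq_one]
    rintro ⟨l, k⟩ h
    rw [hf] at h
    have hl : (l : G) = (k : G)⁻¹ := eq_inv_of_mul_eq_one_left h
    have hlK : (l : G) ∈ L ⊓ ρ.ker := ⟨l.2, by rw [hl]; exact Subgroup.inv_mem _ k.2⟩
    rw [hLK, Subgroup.mem_bot] at hlK
    have hk : (k : G) = 1 := by
      rw [hlK, one_mul] at h; exact h
    exact Prod.ext (Subtype.ext hlK) (Subtype.ext hk)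
  have hsurjL : ∀ g : G, ∃ l ∈ L, ρ l = ρ g := by
    intro g
    have : ρ g ∈ L.map ρ := by rw [hLtop]; trivial
    obtain ⟨l, hl, hlg⟩ := this
    exact ⟨l, hl, hlg⟩
  have hsurj : Function.Surjective f := by
    intro g
    obtain ⟨l, hl, hlg⟩ := hsurjL g
    have hk : l⁻¹ * g ∈ ρ.ker := by
      rw [MonoidHom.mem_ker, map_mul, map_inv, hlg, inv_mul_cancel]
    refine ⟨(⟨l, hl⟩, ⟨l⁻¹ * g, hk⟩), ?_⟩
    rw [hf]
    show l * (l⁻¹ * g) = g
    group
  let φ : G ≃* ↥L × ↥ρ.ker := (MulEquiv.ofBijective f ⟨hinj, hsurj⟩).symm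
  have hρLinj : Function.Injective (ρ.comp L.subtype) := by
    rw [injective_iff_map_eq_one]
    intro l hl
    have hlK : (l : G) ∈ L ⊓ ρ.ker := ⟨l.2, hl⟩
    rw [hLK, Subgroup.mem_bot] at hlK
    exact Subtype.ext hlK
  have hρLsurj : Function.Surjective (ρ.comp L.subtype) := by
    intro s
    have : s ∈ L.map ρ := by rw [hLtop]; trivial
    obtain ⟨l, hl, hls⟩ := this
    exact ⟨⟨l, hl⟩, hls⟩
  let eL : ↥L ≃* S := MulEquiv.ofBijective (ρ.comp L.subtype) ⟨hρLinj, hρLsurj⟩
  exact ⟨φ.trans (MulEquiv.prodCongr eL (MulEquiv.refl _))⟩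

/-- a field of characteristic two whose `SL₂` has a 2-subgroup with at least three elements has
at least four elements. -/
theorem four_le_card_field {F : Type} [Field F] [Fintype F] [CharP F 2]
    (U : Subgroup (Matrix.SpecialLinearGroup (Fin 2) F)) (hU : IsPGroup 2 U)
    (h3 : 3 ≤ Nat.card U) : 4 ≤ Fintype.card F := by
  have : Fact (Nat.Prime 2) := ⟨Nat.prime_two⟩
  obtain ⟨f, -, hq⟩ := FiniteField.card F 2
  obtain ⟨a, ha⟩ := IsPGroup.iff_card.mp hU
  have hUdvd : Nat.card U ∣ Fintype.card F * (Fintype.card F ^ 2 - 1) := by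
    rw [← Cfsg.Agent.Lib.H12.card_SL2]
    exact Subgroup.card_subgroup_dvd_card U
  have hodd : Odd (Fintype.card F ^ 2 - 1) := by
    have he : Even (Fintype.card F ^ 2) := by
      rw [hq, ← pow_mul]
      exact (Nat.even_pow.mpr ⟨even_two, by positivity⟩)
    have hpos : 0 < Fintype.card F ^ 2 := by positivity
    obtain ⟨m, hm⟩ := he
    exact ⟨m - 1, by omega⟩
  have hcop : (Nat.card U).Coprime (Fintype.card F ^ 2 - 1) := by
    rw [ha]
    apply Nat.Coprime.pow_left
    exact Nat.coprime_two_left.mpr hodd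
  have hUq : Nat.card U ∣ Fintype.card F := hcop.dvd_of_dvd_mul_right hUdvd
  have hq1 : 1 < Fintype.card F := Fintype.one_lt_card
  have hUle : Nat.card U ≤ Fintype.card F := Nat.le_of_dvd (by omega) hUq
  have hq3 : 3 ≤ Fintype.card F := le_trans h3 hUle
  rw [hq] at hq3 ⊢
  have hf2 : 2 ≤ (f : ℕ) := by
    by_contra hlt
    have : (f : ℕ) ≤ 1 := by omega
    have := Nat.pow_le_pow_right (n := 2) (by norm_num) this
    omega
  calc 4 = 2 ^ 2 := by norm_num
    _ ≤ 2 ^ (f : ℕ) := Nat.pow_le_pow_right (by norm_num) hf2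

theorem isSimpleGroup_sl2 {F : Type} [Field F] [Fintype F] [CharP F 2]
    (h4 : 4 ≤ Fintype.card F) : IsSimpleGroup (Matrix.SpecialLinearGroup (Fin 2) F) := by
  have h4' : 4 ≤ Nat.card F := by rw [Nat.card_eq_fintype_card]; exact h4
  have := Matrix.ProjectiveSpecialLinearGroup.rank_two_simple (F := F) h4'
  exact (Cfsg.Agent.Lib.H18.psl2EquivSl2 (F := F)).symm.isSimpleGroup

end Cfsg.Agent.Lib.H4.AIC
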