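import Mathlib
import Cfsg.Agent.Lib.H4.AIC.A6c

set_option autoImplicit false
set_option linter.unusedSectionVars false

/-! Commutative involution centralizers: the case of a nontrivial centre. -/

namespace Cfsg.Agent.Lib.H4.AIC

open Cfsg.Agent.Lib.H6.SE

variable {G : Type*} [Group G] [Finite G]

/-- if the centre contains an involution, the group is commutative. -/
theorem center_odd (hH : Hyp G) (hnn : ∀ P : Sylow 2 G, ¬ (P : Subgroup G).Normal) :
    Odd (Nat.card (Subgroup.center G)) := by
  have : Fact (Nat.Prime 2) := ⟨Nat.prime_two⟩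
  by_contra hodd
  rw [Nat.not_odd_iff_even, even_iff_two_dvd] at hodd
  obtain ⟨⟨z, hzZ⟩, hz⟩ := exists_prime_orderOf_dvd_card' 2 hodd
  rw [Subgroup.orderOf_mk] at hz
  rw [Subgroup.mem_center_iff] at hzZ
  have hcomm : ∀ a b : G, a * b = b * a := fun a b => hH z hz a b (hzZ a) (hzZ b)
  obtain ⟨P⟩ : Nonempty (Sylow 2 G) := inferInstance
  apply hnn P
  constructor
  intro n hn g
  rw [hcomm g n, mul_inv_cancel_right]
  exact hn

/-- the case of a nontrivial centre, given the result for the quotient by the centre. -/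
theorem concl_of_center (hH : Hyp G) (hnc : ∀ P : Sylow 2 G, ¬ IsCyclic (P : Subgroup G))
    (hnn : ∀ P : Sylow 2 G, ¬ (P : Subgroup G).Normal)
    (IH : Hyp (G ⧸ Subgroup.center G) → Concl (G ⧸ Subgroup.center G)) : Concl G := by
  have : Fact (Nat.Prime 2) := ⟨Nat.prime_two⟩
  have hZodd := center_odd hH hnn
  have hq := hyp_quotient (N := Subgroup.center G) le_rfl hZodd hH
  have hoddmk := odd_ker_mk' (N := Subgroup.center G) le_rfl hZodd
  rcases IH hq with hc | hn | ⟨F, _, _, A', _, _, hchar, hoddA', ⟨e⟩⟩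
  · exact absurd hc (not_all_cyclic_quotient le_rfl hZodd hH hnc)
  · exact absurd hn (not_all_normal_quotient le_rfl hZodd hnn)
  -- the projection onto SL₂(F)
  obtain ⟨ρ, hρ⟩ : ∃ ρ : G →* Matrix.SpecialLinearGroup (Fin 2) F,
      ρ = (MonoidHom.fst _ _).comp (e.toMonoidHom.comp (QuotientGroup.mk' (Subgroup.center G))) :=
    ⟨_, rfl⟩
  have hρapp : ∀ g : G, ρ g = (e (QuotientGroup.mk' (Subgroup.center G) g)).1 := by
    intro g; rw [hρ]; rfl
  have hρsurj : Function.Surjective ρ := by
    intro s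
    obtain ⟨g, hg⟩ := QuotientGroup.mk'_surjective (Subgroup.center G) (e.symm (s, 1))
    refine ⟨g, ?_⟩
    rw [hρapp, hg]
    simp
  -- the kernel has no involution
  have hKinv : ∀ x ∈ ρ.ker, orderOf x ≠ 2 := by
    intro x hx hx2
    have h1 := orderOf_map_eq_two (QuotientGroup.mk' (Subgroup.center G)) hoddmk hx2
    have h2 : (e (QuotientGroup.mk' (Subgroup.center G) x)).1 = 1 := by
      rw [← hρapp]; exact hx
    have h3 : (e (QuotientGroup.mk' (Subgroup.center G) x)).2 *
        (e (QuotientGroup.mk' (Subgroup.center G) x)).2 = 1 := by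
      have := congrArg Prod.snd (congrArg e (sq_eq_one h1))
      simpa using this
    have h4 := eq_one_of_sq_of_odd hoddA' h3
    have h5 : e (QuotientGroup.mk' (Subgroup.center G) x) = 1 := Prod.ext h2 h4
    have h6 : QuotientGroup.mk' (Subgroup.center G) x = 1 := by
      have := congrArg e.symm h5
      simpa using this
    exact ne_one h1 h6
  have hKodd : Odd (Nat.card ρ.ker) := by
    by_contra hodd
    rw [Nat.not_odd_iff_even, even_iff_two_dvd] at hodd
    obtain ⟨⟨x, hxK⟩, hx⟩ := exists_prime_orderOf_dvd_card' 2 hodd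
    rw [Subgroup.orderOf_mk] at hx
    exact hKinv x hxK hx
  -- the kernel centralizes the involutions
  have hKcent : ∀ c ∈ ρ.ker, ∀ t : G, orderOf t = 2 → c * t = t * c := by
    intro c hc t ht
    apply commute_of_commutator_mem (N := Subgroup.center G) le_rfl hZodd ht
    rw [← QuotientGroup.eq_one_iff]
    apply e.injective
    rw [map_one]
    have hc1 : (e (QuotientGroup.mk' (Subgroup.center G) c)).1 = 1 := by
      rw [← hρapp]; exact hc
    have e1 : ((c * t * c⁻¹ * t⁻¹ : G) : G ⧸ Subgroup.center G) =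
        QuotientGroup.mk' (Subgroup.center G) c * QuotientGroup.mk' (Subgroup.center G) t *
          (QuotientGroup.mk' (Subgroup.center G) c)⁻¹ *
          (QuotientGroup.mk' (Subgroup.center G) t)⁻¹ := by
      simp [QuotientGroup.mk_mul, QuotientGroup.mk_inv]
    rw [e1]
    apply Prod.ext
    · simp only [map_mul, map_inv, Prod.fst_mul, Prod.fst_inv, hc1, Prod.fst_one]
      group
    · simp only [map_mul, map_inv, Prod.snd_mul, Prod.snd_inv, Prod.snd_one]
      rw [mul_comm ((e (QuotientGroup.mk' (Subgroup.center G) c)).2), mul_inv_cancel_right,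
        mul_inv_cancel]
  obtain ⟨P⟩ : Nonempty (Sylow 2 G) := inferInstance
  obtain ⟨t, htP, t', ht'P, ht, ht', hne⟩ := exists_two_involutions hH P (hnc P)
  have htt' := P_comm hH P (hnc P) t htP t' ht'P
  have hKcomm : ∀ a ∈ ρ.ker, ∀ b ∈ ρ.ker, a * b = b * a := fun a ha b hb =>
    hH t ht a b (hKcent a ha t ht) (hKcent b hb t ht)
  -- SL₂(F) is simple
  have h4 : 4 ≤ Fintype.card F := by
    apply four_le_card_field ((P : Subgroup G).map ρ) (P.2.map ρ)
    apply three_le_card (a := ρ t) (b := ρ t') (Subgroup.mem_map_of_mem _ htP)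
      (Subgroup.mem_map_of_mem _ ht'P)
    · exact ne_one (orderOf_map_eq_two ρ hKodd ht)
    · exact ne_one (orderOf_map_eq_two ρ hKodd ht')
    · exact map_ne_of_involutions ρ hKodd htt' ht ht' hne
  have hsimple := isSimpleGroup_sl2 h4
  -- the involutions generate a supplement of the kernel
  have hLtop : (invClosure G).map ρ = ⊤ := by
    have hnorm : ((invClosure G).map ρ).Normal := Subgroup.Normal.map invClosure_normal ρ hρsurj
    rcases hnorm.eq_bot_or_eq_top with h | h
    · exfalso
      have h1 : ρ t ∈ (invClosure G).map ρ := Subgroup.mem_map_of_mem _ (mem_invClosure ht)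
      rw [h, Subgroup.mem_bot] at h1
      exact ne_one (orderOf_map_eq_two ρ hKodd ht) h1
    · exact h
  -- the kernel is central
  have hKcenter : ρ.ker ≤ Subgroup.center G := by
    intro c hc
    rw [Subgroup.mem_center_iff]
    intro g
    have : ρ g ∈ (invClosure G).map ρ := by rw [hLtop]; trivial
    obtain ⟨l, hl, hlg⟩ := this
    have hk : l⁻¹ * g ∈ ρ.ker := by
      rw [MonoidHom.mem_ker, map_mul, map_inv, hlg, inv_mul_cancel]
    have h1 := commute_invClosure (hKcent c hc) hl
    have h2 := hKcomm c hc _ hk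
    calc g * c = l * ((l⁻¹ * g) * c) := by group
      _ = l * (c * (l⁻¹ * g)) := by rw [h2]
      _ = (l * c) * (l⁻¹ * g) := by group
      _ = (c * l) * (l⁻¹ * g) := by rw [h1]
      _ = c * g := by group
  -- the intersection is trivial, by transfer
  have hLK : invClosure G ⊓ ρ.ker = ⊥ := by
    rw [eq_bot_iff]
    intro x hx
    rw [Subgroup.mem_bot]
    by_contra hx1
    obtain ⟨hxL, hxK⟩ := hx
    have hox : orderOf x ≠ 1 := fun h => hx1 (orderOf_eq_one_iff.mp h)
    have hpp : (orderOf x).minFac.Prime := Nat.minFac_prime hox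
    have hpd : (orderOf x).minFac ∣ orderOf x := Nat.minFac_dvd _
    obtain ⟨p, hp⟩ : ∃ p, p = (orderOf x).minFac := ⟨_, rfl⟩
    rw [← hp] at hpp hpd
    have hfp : Fact p.Prime := ⟨hpp⟩
    have hy : orderOf (x ^ (orderOf x / p)) = p :=
      orderOf_pow_orderOf_div (orderOf_pos x).ne' hpd
    have hyL : x ^ (orderOf x / p) ∈ invClosure G := Subgroup.pow_mem _ hxL _
    have hyK : x ^ (orderOf x / p) ∈ ρ.ker := Subgroup.pow_mem _ hxK _
    have hp2 : p ≠ 2 := by
      have := hKinv _ hyK
      rw [hy] at this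
      exact this
    obtain ⟨R⟩ : Nonempty (Sylow p (Matrix.SpecialLinearGroup (Fin 2) F)) := inferInstance
    have hRcyc : IsCyclic (R : Subgroup (Matrix.SpecialLinearGroup (Fin 2) F)) :=
      Cfsg.Agent.Lib.H2.SL2Cyc.main 2 p hp2 hp2 R
    have hHcomm := comm_of_central_cyclic ρ hKcenter (R : Subgroup _) hρsurj
    have hHodd : Odd (Nat.card ((R : Subgroup (Matrix.SpecialLinearGroup (Fin 2) F)).comap ρ)) := by
      by_contra hodd
      rw [Nat.not_odd_iff_even, even_iff_two_dvd] at hodd
      obtain ⟨⟨y, hyH⟩, hy2⟩ := exists_prime_orderOf_dvd_card' 2 hodd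
      rw [Subgroup.orderOf_mk] at hy2
      rw [Subgroup.mem_comap] at hyH
      have h1 := orderOf_map_eq_two ρ hKodd hy2
      obtain ⟨n, hn⟩ := R.2 ⟨ρ y, hyH⟩
      have hn' : (ρ y) ^ (p ^ n) = 1 := by
        have := congrArg Subtype.val hn
        simpa using this
      have h2 := orderOf_dvd_of_pow_eq_one hn'
      rw [h1] at h2
      have := (Nat.prime_dvd_prime_iff_eq Nat.prime_two hpp).mp (Nat.prime_two.dvd_of_dvd_pow h2)
      exact hp2 this.symm
    have h1 := pow_index_eq_one_of_mem_invClosure hHcomm hHodd (hKcenter hyK) hyL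
    have h2 := orderOf_dvd_of_pow_eq_one h1
    rw [hy, Subgroup.index_comap_of_surjective _ hρsurj] at h2
    exact R.not_dvd_index h2
  obtain ⟨φ⟩ := mulEquiv_prod_of_complement ρ (invClosure G) hLtop hLK hKcenter
  exact concl_of_mulEquiv (fun a b => Subtype.ext (hKcomm a a.2 b b.2)) hKodd φ

end Cfsg.Agent.Lib.H4.AIC
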