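import Mathlib
import Cfsg.Agent.Lib.H4.AIC.A4
import Cfsg.Agent.Lib.H4.AIC.A6d

set_option autoImplicit false
set_option linter.unusedSectionVars false

/-! Commutative involution centralizers: the induction. -/

namespace Cfsg.Agent.Lib.H4.AIC

universe u

theorem card_subgroup_lt {G : Type*} [Group G] [Finite G] {X : Subgroup G} (hX : X ≠ ⊤) :
    Nat.card X < Nat.card G := by
  have h1 := X.card_mul_index
  have h2 : X.index ≠ 1 := fun h => hX (Subgroup.index_eq_one.mp h)
  have h3 : X.index ≠ 0 := Subgroup.index_ne_zero_of_finite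
  have h4 : 0 < Nat.card X := Nat.card_pos
  have h5 : 2 ≤ X.index := by omega
  nlinarith

theorem card_quotient_lt {G : Type*} [Group G] [Finite G] {N : Subgroup G} [N.Normal]
    (hN : N ≠ ⊥) : Nat.card (G ⧸ N) < Nat.card G := by
  have h1 := Subgroup.card_eq_card_quotient_mul_card_subgroup N
  have h2 : 1 < Nat.card N := (Subgroup.one_lt_card_iff_ne_bot N).mpr hN
  have h3 : 0 < Nat.card (G ⧸ N) := Nat.card_pos
  nlinarith

theorem concl_of_hyp : ∀ (n : ℕ) (G : Type u) [Group G] [Finite G], Nat.card G = n → Hyp G →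
    Concl G := by
  intro n
  induction n using Nat.strong_induction_on with
  | _ n ih =>
    intro G _ _ hcard hH
    by_cases hc : ∀ P : Sylow 2 G, IsCyclic (P : Subgroup G)
    · left; exact hc
    by_cases hn : ∀ P : Sylow 2 G, (P : Subgroup G).Normal
    · right; left; exact hn
    push Not at hc hn
    obtain ⟨P₁, hP₁⟩ := hc
    obtain ⟨P₂, hP₂⟩ := hn
    have hnc : ∀ P : Sylow 2 G, ¬ IsCyclic (P : Subgroup G) := fun P h =>
      hP₁ (isCyclic_sylow_imp P P₁ h)
    have hnn : ∀ P : Sylow 2 G, ¬ (P : Subgroup G).Normal := fun P h =>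
      hP₂ (normal_sylow_imp P P₂ h)
    by_cases hZ : Subgroup.center G = ⊥
    · have hTI : TI G := by
        apply TI_of_center hH hnc hnn hZ
        intro X hX
        exact ih (Nat.card X) (by rw [← hcard]; exact card_subgroup_lt hX) ↥X rfl (hH.subgroup X)
      obtain ⟨F, _, _, hchar, ⟨e⟩⟩ := main_of_TI hH hnc hTI P₁ (hnn P₁)
      have hodd : Odd (Nat.card PUnit.{1}) := by
        rw [Nat.card_unique]; exact odd_one
      exact concl_of_mulEquiv (K := PUnit.{1}) (fun a b => rfl) hodd
        (e.trans (MulEquiv.prodUnique).symm)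
    · apply concl_of_center hH hnc hnn
      intro hq
      exact ih (Nat.card (G ⧸ Subgroup.center G)) (by rw [← hcard]; exact card_quotient_lt hZ)
        (G ⧸ Subgroup.center G) rfl hq

end Cfsg.Agent.Lib.H4.AIC
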